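import Cfsg.Agent.H555.Hall.HNFiveA
import Cfsg.Agent.H171.Odd.Tools
import Cfsg.Agent.S0204

/-!
# The Harada–Norton group: `Inv1 5 t`, `t = 3, 7, 11` (helper555)
-/

set_option autoImplicit false
set_option maxRecDepth 100000

namespace Cfsg.Agent.H555.Hall.HNFive

open Cfsg.Agent.HN.Pres Cfsg.Agent.HN.H0Basic
open Cfsg.Agent.HN.P1408 hiding ψ
open Cfsg.Agent.HN.NormalH (ψ)
open Cfsg.Agent.HN.XWords (W0 W0_sq)
open Cfsg Cfsg.Agent
open Cfsg.Agent.KFacts.HN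
open Cfsg.Agent.CpAutTh.RankOne (UInv)
open Cfsg.Agent.CpAutHN.Alt
open Cfsg.Agent.CpAutHN.Pairs (instSimple tt order_tt comm_of)
open Cfsg.Agent.CpAutHNFive Cfsg.Agent.CpAutHNFive.TFive Cfsg.Agent.CpAutHNFive.HTab Cfsg.Agent.CpAutHNFive.LFive
  Cfsg.Agent.CpAutHNFive.PFive Cfsg.Agent.CpAutHNFive.Main
open Cfsg.Agent.CpAutHNFive.HFacts Cfsg.Agent.CpAutHNFive.TauFive Cfsg.Agent.CpAutHNFive.QD
open Cfsg.Agent.HN.Syl (d)
open Subgroup

theorem FT (K : Type) [Group K] [Finite K] (h : Odd (Nat.card K)) : Group.IsSolvable K := S0205.result h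

theorem h204 (K : Type) [Group K] [Finite K] [IsSimpleGroup K] (h : ¬ IsCyclic K) : ∃ E : Subgroup K, IsKleinFour E :=
  S0204.result h

theorem not_good_two : ¬ Good ↥(centralizer ({ψ (hw w2)} : Set G)) := by
  intro h
  obtain ⟨e⟩ := (main_cases FT h204 order_X5 order_tt tt_comm).resolve_left not_good
  exact not_good (h.congr e.symm)

theorem not_iso_one : ¬ Nonempty (↥(centralizer ({ψ (hw w1)} : Set G)) ≃* ↥(centralizer ({ψ (hw w2)} : Set G))) := by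
  rintro ⟨e⟩
  exact not_good_two ((good_one FT h204).congr e)

theorem order_ψ (y : H0) : orderOf (ψ y) = orderOf y := orderOf_injective _ emb.inj y

theorem ψ_comm {a b : H0} (h : a * b = b * a) : ψ a * ψ b = ψ b * ψ a := by rw [← map_mul, h, map_mul]

theorem isConj_W0 {u : G} (hu : orderOf u = 2) (h : ¬ IsConj (ψ τ) u) : IsConj W0 u := by
  rcases Classes.inv_class hu with h1 | h1
  · exact absurd h1.symm h
  · exact h1.symm

/-! ### `w3` -/

theorem not_dvd_w3 {t : ℕ} (ht : t.Prime) (h2 : t ≠ 2) (h5 : t ≠ 5) :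
    ¬ t ∣ Nat.card ↥(centralizer ({ψ (hw w3)} : Set G)) := by
  have hx : orderOf (ψ (hw w3)) = 5 := by rw [order_ψ, order_w3]
  have hτd : orderOf (τ * d) = 2 := by
    have : Fact (Nat.Prime 2) := ⟨Nat.prime_two⟩
    refine orderOf_eq_prime ?_ ?_
    · rw [pow_two]
      have h3 : d * d = 1 := by rw [← pow_two]; exact d_two
      calc τ * d * (τ * d) = τ * (d * τ) * d := by group
        _ = (τ * τ) * (d * d) := by rw [τ_comm]; group
        _ = 1 := by rw [τ_mul_τ, h3, one_mul]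
    · intro h
      apply d_ne_τ
      calc d = τ * (τ * d) := by rw [← mul_assoc, τ_mul_τ, one_mul]
        _ = τ := by rw [h, mul_one]
  have hτdc : τ * d * hw w3 = hw w3 * (τ * d) := by
    rw [mul_assoc, d_comm, ← mul_assoc, ← τ_comm, mul_assoc]
  have hWd : IsConj W0 (ψ d) := isConj_W0 (by rw [order_ψ, order_d]) hd
  have hWτd : IsConj W0 (ψ (τ * d)) := by
    rcases inv_three hτdc hτd with h | h
    · exfalso
      apply d_ne
      exact mul_eq_left.1 h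
    · exact hWd.trans (ψ.map_isConj h)
  refine not_dvd_cent_of_four (z := ψ τ) (v := ψ d) (by rw [order_ψ, order_τ]) (by rw [order_ψ, order_d])
    (ψ_comm (τ_comm d)) (ψ_comm (τ_comm _).symm) (ψ_comm d_comm) ?_ ht ?_ ?_ ?_
  · intro g hgx hg
    obtain ⟨v, hv⟩ := emb.cent _ hg
    have hvx : v * hw w3 = hw w3 * v := by
      apply emb.inj
      rw [map_mul, map_mul, hv]
      have h3 := ψ_comm (a := τ) (b := hw w3) (τ_comm _).symm
      calc g * ψ τ * g⁻¹ * ψ (hw w3) = g * ψ τ * g⁻¹ * (ψ (hw w3) * g) * g⁻¹ := by group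
        _ = g * (ψ τ * ψ (hw w3)) * g⁻¹ := by rw [← hgx]; group
        _ = g * ψ (hw w3) * ψ τ * g⁻¹ := by rw [h3]; group
        _ = ψ (hw w3) * (g * ψ τ * g⁻¹) := by rw [hgx]; group
    have hv2 : orderOf v = 2 := by
      rw [← order_ψ, hv, ← order_τ, ← order_ψ]
      exact MulEquiv.orderOf_eq (MulAut.conj g) _
    rcases inv_three hvx hv2 with rfl | h
    · exact hv.symm
    · exfalso
      apply hd
      have h3 : IsConj (ψ τ) (ψ v) := by
        rw [hv]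
        exact isConj_iff.2 ⟨g, rfl⟩
      exact h3.trans (ψ.map_isConj h).symm
  · rw [card_H0]
    exact cent_three ht h2 h5
  · refine pair_W hx hWd (ψ_comm d_comm) (u := ψ τ) (by rw [order_ψ, order_τ]) ?_ (ψ_comm (τ_comm d).symm)
      (ψ_comm (τ_comm _).symm) ht h2 h5
    intro h
    exact d_ne_τ (emb.inj h).symm
  · rw [← map_mul]
    refine pair_W hx hWτd (ψ_comm hτdc) (u := ψ τ) (by rw [order_ψ, order_τ]) ?_ (ψ_comm (τ_comm _).symm)
      (ψ_comm (τ_comm _).symm) ht h2 h5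
    intro h
    exact d_ne (mul_eq_left.1 (emb.inj h).symm)

/-! ### `w1` -/

/-- type II : `W0` is isolated in `C(x)` -/
theorem iso_two {x : PP} (hx : orderOf x = 5) (h : ρ x = φA LFive.c5 * φB (LFive.c5 ^ 3)) :
    ∀ g : ↥(centralizer ({(x : G)} : Set G)), g * sx x * g⁻¹ * sx x = sx x * (g * sx x * g⁻¹) →
      g * sx x * g⁻¹ = sx x := by
  have h5 : x ^ 5 = 1 := by rw [← hx, pow_orderOf_eq_one]
  refine iso_of_extra (order_sx x) (RS.subgroupOf (centralizer ({(x : G)} : Set G))) ?_ ?_ ?_ ?_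
  · intro u k hk hu
    obtain ⟨v, hvu, hvx⟩ := comm_elt hu
    have h1 : v ^ 2 ^ k = 1 := by
      apply Subtype.ext
      change (v : G) ^ 2 ^ k = 1
      rw [hvu]
      exact congrArg Subtype.val hk
    have h2 := ρ_two h hvx h1
    rw [mem_subgroupOf, ← hvu]
    exact ⟨v, h2, rfl⟩
  · intro u
    obtain ⟨k, hk⟩ := RS_isPGroup ⟨((u : ↥(centralizer ({(x : G)} : Set G))) : G), mem_subgroupOf.1 u.2⟩
    refine ⟨k, Subtype.ext (Subtype.ext ?_)⟩
    have h0 := congrArg Subtype.val hk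
    exact h0
  · intro a ha b hb
    rcases large.comm a (mem_subgroupOf.1 ha) b (mem_subgroupOf.1 hb) with h1 | h1
    · exact Or.inl (Subtype.ext h1)
    · exact Or.inr (Subtype.ext h1)
  · intro s hs hs2 hsz
    have hxc : ∀ c : G, c ∈ RS → c * W0 = W0 * c := fun c hc => mem_PP.1 (RS_le_PP hc)
    have hxW : (x : G) * W0 = W0 * x := mem_PP.1 x.2
    have hz2 : W0 * W0 = 1 := W0_sq
    obtain ⟨a, ha, b, hb, h1, h2, h3⟩ := CpAutHNFive.exists_not_comm (G := G)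
      (T := RS ⊓ centralizer ({(x : G)} : Set G)) (z := W0) (s := (s : G)) hz2 (fun t ht => hxc t ht.1)
      (fun a ha b hb => large.comm a ha.1 b hb.1) (by
        intro c hc hcT
        refine large.cent c hc.1 fun y hy => ?_
        refine comm_of_norm (R := RS) (z := W0) (x := (x : G)) order_W0 hxc hxW (congrArg Subtype.val h5)
          (fun r hr => conj_RS x.2 hr) large.comm hc.1 (mem_centralizer_singleton_iff.1 hc.2) ?_ hy
        intro d hd hdx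
        exact hcT d ⟨hd, mem_centralizer_singleton_iff.2 hdx⟩) (card_two h5 h)
      ⟨mem_subgroupOf.1 hs, s.2⟩ (TFive.sq_of_order hs2).2 (fun h => hsz (Subtype.ext h))
    refine ⟨⟨a, ha.2⟩, mem_subgroupOf.2 ha.1, ⟨b, hb.2⟩, mem_subgroupOf.2 hb.1, Subtype.ext h1, Subtype.ext h2, ?_⟩
    intro h4
    exact h3 (congrArg Subtype.val h4)

theorem W0_eq' : W0 = ψ (Cfsg.Agent.HN.Syl.a * τ) := Cfsg.Agent.HN.XWords.W0_eq

theorem aτ_comm : Cfsg.Agent.HN.Syl.a * τ * hw w1 = hw w1 * (Cfsg.Agent.HN.Syl.a * τ) := by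
  rw [mul_assoc, ← τ_comm, ← mul_assoc, a_comm, mul_assoc]

theorem τ_ne_W0 : ψ τ ≠ W0 := by
  intro h
  exact Classes.not_isConj (h ▸ IsConj.refl _)

/-- `8 ∣ |C(w1) ∩ C(W0)|` -/
theorem eight_dvd_W0 : 8 ∣ Nat.card ↥(centralizer ({ψ (hw w1)} : Set G) ⊓ centralizer ({W0} : Set G) : Subgroup G) := by
  have := finite_H0
  have h1 : (zpowers τ ⊔ zpowers (hw wq)).map ψ ≤
      centralizer ({ψ (hw w1)} : Set G) ⊓ centralizer ({W0} : Set G) := by
    rw [map_le_iff_le_comap, sup_le_iff, zpowers_le, zpowers_le]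
    constructor
    · refine ⟨mem_centralizer_singleton_iff.2 ?_, mem_centralizer_singleton_iff.2 ?_⟩
      · rw [← map_mul, ← map_mul, τ_comm]
      · rw [W0_eq', ← map_mul, ← map_mul, ← τ_comm (Cfsg.Agent.HN.Syl.a * τ)]
    · refine ⟨mem_centralizer_singleton_iff.2 ?_, mem_centralizer_singleton_iff.2 ?_⟩
      · rw [← map_mul, ← map_mul, q_comm]
      · have h2 : hw wq * (Cfsg.Agent.HN.Syl.a * τ) = Cfsg.Agent.HN.Syl.a * τ * hw wq := by
          rw [← mul_assoc, q_comm_a, mul_assoc, τ_comm, ← mul_assoc]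
        rw [W0_eq', ← map_mul, ← map_mul, h2]
  have h8 : 8 ∣ Nat.card ↥(zpowers τ ⊔ zpowers (hw wq) : Subgroup H0) := by
    have ht : τ ∈ zpowers τ ⊔ zpowers (hw wq) := mem_sup_left (mem_zpowers _)
    have hq : hw wq ∈ zpowers τ ⊔ zpowers (hw wq) := mem_sup_right (mem_zpowers _)
    have h3 := mul_order_dvd (C := ↥(zpowers τ ⊔ zpowers (hw wq) : Subgroup H0)) (a := ⟨τ, ht⟩) (b := ⟨hw wq, hq⟩)
      (Subtype.ext (τ_comm _).symm)
      (inf_eq_bot_of_prime Nat.prime_two (by rw [← Subgroup.orderOf_coe]; exact order_τ) (by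
        intro h
        apply τ_not_mem
        obtain ⟨k, hk⟩ := mem_zpowers_iff.1 h
        exact mem_zpowers_iff.2 ⟨k, congrArg Subtype.val hk⟩))
    rw [← Subgroup.orderOf_coe, ← Subgroup.orderOf_coe] at h3
    change orderOf τ * orderOf (hw wq) ∣ _ at h3
    rw [order_τ, order_q] at h3
    exact h3
  rw [Nat.card_congr ((zpowers τ ⊔ zpowers (hw wq)).equivMapOfInjective ψ emb.inj).toEquiv] at h8
  exact h8.trans (card_dvd_of_le h1)

theorem iso_one : ∀ g : G, g * ψ (hw w1) = ψ (hw w1) * g → g * W0 * g⁻¹ * W0 = W0 * (g * W0 * g⁻¹) →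
    g * W0 * g⁻¹ = W0 := by
  have hx : orderOf (ψ (hw w1)) = 5 := by rw [order_ψ, order_w1]
  have hxW : ψ (hw w1) * W0 = W0 * ψ (hw w1) := by rw [W0_eq']; exact (ψ_comm aτ_comm).symm
  obtain ⟨g, y, m, hm1, hm5, hy, hy5, h⟩ := std_W hx hxW (u := ψ τ) (by rw [order_ψ, order_τ]) τ_ne_W0
    (by rw [W0_eq']; exact ψ_comm (τ_comm _).symm) (ψ_comm (τ_comm _).symm)
  have hgW : (g : G) * W0 * (g : G)⁻¹ = W0 := by rw [mem_PP.1 g.2, mul_inv_cancel_right]
  have hII : ρ y = φA LFive.c5 * φB (LFive.c5 ^ 3) := by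
    rcases h with h | h
    · exfalso
      have h1 := TFive.card_three h
      rw [TauFive.card_pair, hy, ← hgW, ← card_conj (g : G) (ψ (hw w1) ^ m) W0, centralizer_pow hx hm1 hm5] at h1
      have h2 := eight_dvd_W0.trans h1
      norm_num at h2
    · exact h
  have hiso := iso_two hy5 hII
  intro k hkx hk
  have hkm : k * ψ (hw w1) ^ m = ψ (hw w1) ^ m * k := ((show Commute k (ψ (hw w1)) from hkx).pow_right m).eq
  have hmem : (g : G) * k * (g : G)⁻¹ ∈ centralizer ({(y : G)} : Set G) := by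
    rw [mem_centralizer_singleton_iff, hy]
    calc (g : G) * k * (g : G)⁻¹ * (g * ψ (hw w1) ^ m * (g : G)⁻¹) = g * (k * ψ (hw w1) ^ m) * (g : G)⁻¹ := by group
      _ = g * (ψ (hw w1) ^ m * k) * (g : G)⁻¹ := by rw [hkm]
      _ = _ := by group
  have hconj : (g : G) * k * (g : G)⁻¹ * W0 * ((g : G) * k * (g : G)⁻¹)⁻¹ = g * (k * W0 * k⁻¹) * (g : G)⁻¹ := by
    calc (g : G) * k * (g : G)⁻¹ * W0 * ((g : G) * k * (g : G)⁻¹)⁻¹
        = (g : G) * k * (g : G)⁻¹ * (g * W0 * (g : G)⁻¹) * ((g : G) * k * (g : G)⁻¹)⁻¹ := by rw [hgW]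
      _ = _ := by group
  have h3 := hiso ⟨_, hmem⟩ (Subtype.ext (by
    change (g : G) * k * (g : G)⁻¹ * W0 * ((g : G) * k * (g : G)⁻¹)⁻¹ * W0 =
      W0 * ((g : G) * k * (g : G)⁻¹ * W0 * ((g : G) * k * (g : G)⁻¹)⁻¹)
    rw [hconj]
    calc g * (k * W0 * k⁻¹) * (g : G)⁻¹ * W0 = g * (k * W0 * k⁻¹) * (g : G)⁻¹ * (g * W0 * (g : G)⁻¹) := by rw [hgW]
      _ = g * (k * W0 * k⁻¹ * W0) * (g : G)⁻¹ := by group
      _ = g * (W0 * (k * W0 * k⁻¹)) * (g : G)⁻¹ := by rw [hk]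
      _ = (g * W0 * (g : G)⁻¹) * (g * (k * W0 * k⁻¹) * (g : G)⁻¹) := by group
      _ = _ := by rw [hgW]))
  have h4 : (g : G) * k * (g : G)⁻¹ * W0 * ((g : G) * k * (g : G)⁻¹)⁻¹ = W0 := congrArg Subtype.val h3
  rw [hconj] at h4
  nth_rewrite 2 [← hgW] at h4
  exact mul_left_cancel (mul_right_cancel h4)

theorem not_dvd_w1 {t : ℕ} (ht : t.Prime) (h2 : t ≠ 2) (h5 : t ≠ 5) :
    ¬ t ∣ Nat.card ↥(centralizer ({ψ (hw w1)} : Set G)) := by
  have hx : orderOf (ψ (hw w1)) = 5 := by rw [order_ψ, order_w1]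
  have hxW : ψ (hw w1) * W0 = W0 * ψ (hw w1) := by rw [W0_eq']; exact (ψ_comm aτ_comm).symm
  have hτo : orderOf (ψ τ) = 2 := by rw [order_ψ, order_τ]
  have hτW : ψ τ * W0 = W0 * ψ τ := by rw [W0_eq']; exact ψ_comm (τ_comm _).symm
  have hτx : ψ τ * ψ (hw w1) = ψ (hw w1) * ψ τ := ψ_comm (τ_comm _).symm
  have hWa : W0 * ψ τ = ψ Cfsg.Agent.HN.Syl.a := by
    rw [W0_eq', ← map_mul, mul_assoc, τ_mul_τ, mul_one]
  have hao : orderOf (ψ Cfsg.Agent.HN.Syl.a) = 2 := by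
    have : Fact (Nat.Prime 2) := ⟨Nat.prime_two⟩
    rw [← hWa]
    refine orderOf_eq_prime ?_ ?_
    · have h3 : ψ τ * ψ τ = 1 := by rw [← map_mul, τ_mul_τ, map_one]
      rw [pow_two]
      calc W0 * ψ τ * (W0 * ψ τ) = W0 * (ψ τ * W0) * ψ τ := by group
        _ = (W0 * W0) * (ψ τ * ψ τ) := by rw [hτW]; group
        _ = 1 := by rw [W0_sq, h3, one_mul]
    · intro h
      apply τ_ne_W0
      calc ψ τ = W0 * (W0 * ψ τ) := by rw [← mul_assoc, W0_sq, one_mul]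
        _ = W0 := by rw [h, mul_one]
  have hax : ψ Cfsg.Agent.HN.Syl.a * ψ (hw w1) = ψ (hw w1) * ψ Cfsg.Agent.HN.Syl.a := ψ_comm a_comm
  refine not_dvd_cent_of_four (z := W0) (v := ψ τ) order_W0 hτo hτW hxW.symm hτx iso_one ht ?_ ?_ ?_
  · exact pair_W0 hx hxW hτo τ_ne_W0 hτW hτx ht h2 h5
  · exact pair_τ hx (IsConj.refl _) hτx not_iso_one ht h2 h5
  · rw [hWa]
    rcases Classes.inv_class hao with h | h
    · exact pair_τ hx h.symm hax not_iso_one ht h2 h5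
    · refine pair_W hx h.symm hax (u := ψ τ) hτo ?_ (ψ_comm (τ_comm _).symm) hτx ht h2 h5
      intro h3
      -- `ψ τ = ψ a`
      have h4 : W0 = 1 := by
        have h6 : W0 * ψ τ = ψ τ := hWa.trans h3.symm
        exact mul_eq_right.1 h6
      exact W0_ne h4

/-! ### the subgroup of order 25 -/

theorem tb_zero : ∀ e ∈ tb, e.1 = 0 → e.2.2.2.2.2.1 < 2 := by decide +kernel

theorem tP_zero : ∀ P < 2, tP.getD P [] = w1 ∨ tP.getD P [] = w3 := by decide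

theorem table0 {j k : ℕ} (hj : j < 5) (hk : k < 5) (h0 : ¬ (j = 0 ∧ k = 0)) :
    ∃ (g : H0) (m : ℕ), 1 ≤ m ∧ m < 5 ∧ ∃ w, (w = w1 ∨ w = w3) ∧
      g⁻¹ * (hw wc ^ j * hw wz ^ k) * g = hw w ^ m := by
  obtain ⟨e, he, h1, rfl, rfl⟩ := (tb_cover 0 (by norm_num) j hj k hk).resolve_left (fun h => h0 ⟨h.2.1, h.2.2⟩)
  obtain ⟨h2, h3, h4, h5⟩ := tb_ok e he
  refine ⟨hw (cwd e), e.2.2.2.2.2.2, h4, h5, tP.getD e.2.2.2.2.2.1 [], tP_zero _ (tb_zero e he h1), ?_⟩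
  have h6 := hw_eq h2
  rw [hw_append, hw_append, elw, hw_append, hw_append, hw_rp, hw_rp, hw_rp, hw_rp, h1, pow_zero, one_mul] at h6
  rw [mul_assoc, h6, inv_mul_cancel_left]

theorem not_dvd_table {j k : ℕ} (hj : j < 5) (hk : k < 5) (h0 : ¬ (j = 0 ∧ k = 0)) {t : ℕ} (ht : t.Prime) (h2 : t ≠ 2)
    (h5 : t ≠ 5) : ¬ t ∣ Nat.card ↥(centralizer ({ψ (hw wc ^ j * hw wz ^ k)} : Set G)) := by
  obtain ⟨g, m, hm1, hm5, w, hw', hg⟩ := table0 hj hk h0
  have hw5 : orderOf (ψ (hw w)) = 5 := by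
    rw [order_ψ]
    rcases hw' with rfl | rfl
    · exact order_w1
    · exact order_w3
  obtain ⟨e⟩ := cequiv_pow (x := ψ (hw w)) (y := ψ (hw wc ^ j * hw wz ^ k)) hw5 (g := ψ g) hm1 hm5 (by
    rw [← map_pow, ← hg, map_mul, map_mul, map_inv]
    group)
  rw [← Nat.card_congr e.toEquiv]
  rcases hw' with rfl | rfl
  · exact not_dvd_w1 ht h2 h5
  · exact not_dvd_w3 ht h2 h5

theorem c_not_mem : hw wc ∉ zpowers (hw wz) := by
  rintro ⟨n, hn⟩
  have h1 : hw wc * hw wd = hw wd * hw wc := by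
    have h2 : Commute (hw wd) (hw wz ^ n) := (show Commute (hw wd) (hw wz) from dz).zpow_right n
    have h3 : hw wz ^ n = hw wc := hn
    rw [h3] at h2
    exact h2.eq.symm
  have h2 := cd
  rw [h1] at h2
  have h3 : hw wc = hw wc * hw wz := mul_left_cancel h2
  exact z1 (mul_eq_left.1 h3.symm)

theorem order_c : orderOf (hw wc) = 5 := by
  refine order_five_of c5 ?_
  intro h
  apply c_not_mem
  rw [h]
  exact one_mem _

theorem order_z : orderOf (hw wz) = 5 := order_five_of z5 z1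

theorem inv1_five {t b : ℕ} (ht : t.Prime) (h2 : t ≠ 2) (h5 : t ≠ 5) (hb : ¬ t ^ (b + 1) ∣ 273030912000000)
    (hw' : ∀ k, 1 ≤ k → k ≤ b → ¬ 5 ^ 2 ∣ t ^ k - 1) : Cfsg.Agent.H171.Odd.Inv1 5 t G := by
  have := finite_H0
  obtain ⟨E, hE, hEm⟩ := exists_prod cz (inf_eq_bot_of_prime Nat.prime_five order_c c_not_mem)
  rw [order_c, order_z] at hE
  have hEc : Nat.card (E.map ψ) = 5 ^ 2 := by
    rw [card_map_of_injective emb.inj, hE]
    norm_num
  refine Cfsg.Agent.H171.Odd.inv1_of_sub Nat.prime_five ht (w := 1) (by rw [Classes.card_HN]; exact hb) hw'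
    (R0 := E.map ψ) (IsPGroup.of_card hEc) (by rw [hEc]; norm_num) ?_
  rintro _ ⟨y, hy, rfl⟩ hy1
  obtain ⟨i, j, hij⟩ := hEm y hy
  obtain ⟨i', hi', hi⟩ := mem_zpowers_lt (a := hw wc ^ i) (b := hw wc) (n := 5) (by norm_num) c5 ⟨i, rfl⟩
  obtain ⟨j', hj', hj⟩ := mem_zpowers_lt (a := hw wz ^ j) (b := hw wz) (n := 5) (by norm_num) z5 ⟨j, rfl⟩
  rw [hij, hi, hj]
  refine not_dvd_table hi' hj' ?_ ht h2 h5
  rintro ⟨rfl, rfl⟩
  apply hy1
  rw [hij, hi, hj, pow_zero, pow_zero, one_mul, map_one]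

end Cfsg.Agent.H555.Hall.HNFive
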