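import Cfsg.Agent.H171.Odd.Tools
import Cfsg.Agent.CpAut.TwoCov
import Cfsg.Agent.Lib.PGroupCoprimeAction
import Cfsg.Agent.Lib.KleinGen

/-!
# Primes dividing the order of a group with an isolated involution (helper555)

`z` an involution of `X` which is the only conjugate of itself in `C(z)`; `X = O(X) C(z)` (Glauberman). `t` a prime not
dividing `|C(z)|`, `Q` a 2-subgroup in which `z` is a power of each nonidentity element, `8 ∣ |Q|`:

* `eight_dvd` : `8 ∣ t ^ k - 1` for the exact power `t ^ k` dividing `|X|`;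
* `not_dvd_card` : `t ∤ |X|` if `t ^ 2 ∤ |X|` and `8 ∤ t - 1`;
* `sq_dvd_cent` : a second involution `u` conjugate to `u z`: `t ^ 2 ∣ |C(u)|` if `t ∣ |X|`.
-/

set_option autoImplicit false

namespace Cfsg.Agent.H555.Hall

open Subgroup Cfsg

universe u

variable {X : Type u} [Group X] [Finite X]

/-- an isolated involution is central in a Sylow 2-subgroup -/
theorem exists_sylow_iso {z : X} (hz : orderOf z = 2)
    (hiso : ∀ g : X, g * z * g⁻¹ * z = z * (g * z * g⁻¹) → g * z * g⁻¹ = z) :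
    ∃ P : Sylow 2 X, z ∈ (P : Subgroup X) ∧ (P : Subgroup X) ≤ centralizer ({z} : Set X) := by
  have : Fact (Nat.Prime 2) := ⟨Nat.prime_two⟩
  have hzC : z ∈ centralizer ({z} : Set X) := mem_centralizer_singleton_iff.2 rfl
  have hzz : IsPGroup 2 (zpowers z) := IsPGroup.of_card (n := 1) (by rw [Nat.card_zpowers, hz, pow_one])
  -- a Sylow 2-subgroup of `C(z)`
  obtain ⟨P0, hP0⟩ := (hzz.comap_of_injective (centralizer ({z} : Set X)).subtype (subtype_injective _)).exists_le_sylow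
  set P1 : Subgroup X := (P0 : Subgroup (centralizer ({z} : Set X))).map (centralizer ({z} : Set X)).subtype with hP1
  have hP1C : P1 ≤ centralizer ({z} : Set X) := map_subtype_le _
  have hP1p : IsPGroup 2 P1 := P0.isPGroup'.map _
  have hzP1 : z ∈ P1 := ⟨⟨z, hzC⟩, hP0 (mem_zpowers z : z ∈ zpowers z), rfl⟩
  obtain ⟨P, hP⟩ := hP1p.exists_le_sylow
  have hPP : (P : Subgroup X) = P1 := by
    by_contra hne
    have hlt : P1 < P := lt_of_le_of_ne hP (Ne.symm hne)
    -- the normalizer grows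
    have hnil : Group.IsNilpotent (P : Subgroup X) := P.isPGroup'.isNilpotent
    have hlt' : P1.subgroupOf P < ⊤ := by
      rw [lt_top_iff_ne_top]
      intro h
      rw [subgroupOf_eq_top] at h
      exact hne (le_antisymm h hP)
    have h1 := Group.normalizerCondition_of_isNilpotent (G := (P : Subgroup X)) _ hlt'
    obtain ⟨⟨g, hgP⟩, hgn, hgn'⟩ := SetLike.exists_of_lt h1
    have hgn1 : g ∉ P1 := fun h => hgn' (mem_subgroupOf.2 h)
    apply hgn1
    -- `g` normalizes `P1`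
    have hgz : g * z * g⁻¹ ∈ P1 := by
      have h2 := (mem_normalizer_iff.1 hgn ⟨z, hP hzP1⟩).1 (mem_subgroupOf.2 hzP1)
      exact mem_subgroupOf.1 h2
    have h3 := hiso g (mem_centralizer_singleton_iff.1 (hP1C hgz))
    have hgC : g ∈ centralizer ({z} : Set X) := by
      rw [mem_centralizer_singleton_iff]
      exact mul_inv_eq_iff_eq_mul.1 h3
    -- `P ⊓ C(z)` is a 2-subgroup of `C(z)` containing `P0`
    have h4 : IsPGroup 2 ((P : Subgroup X).subgroupOf (centralizer ({z} : Set X))) :=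
      P.isPGroup'.comap_of_injective _ (subtype_injective _)
    have h5 : (P0 : Subgroup (centralizer ({z} : Set X))) ≤ (P : Subgroup X).subgroupOf (centralizer ({z} : Set X)) := by
      intro x hx
      exact mem_subgroupOf.2 (hP ⟨x, hx, rfl⟩)
    have h6 := P0.is_maximal' h4 h5
    have h7 : (⟨g, hgC⟩ : centralizer ({z} : Set X)) ∈ (P : Subgroup X).subgroupOf (centralizer ({z} : Set X)) :=
      mem_subgroupOf.2 hgP
    rw [h6] at h7
    exact ⟨⟨g, hgC⟩, h7, rfl⟩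
  exact ⟨P, by rw [hPP]; exact hzP1, by rw [hPP]; exact hP1C⟩

/-- **Glauberman** : `X = O(X) C(z)` -/
theorem exists_odd_iso {z : X} (hz : orderOf z = 2)
    (hiso : ∀ g : X, g * z * g⁻¹ * z = z * (g * z * g⁻¹) → g * z * g⁻¹ = z) :
    ∃ N : Subgroup X, N.Normal ∧ Odd (Nat.card N) ∧ N ⊔ centralizer ({z} : Set X) = ⊤ := by
  obtain ⟨P, hzP, hPC⟩ := exists_sylow_iso hz hiso
  obtain ⟨N, hN, hodd, hc⟩ := Cfsg.Agent.S0215.result P z hz hzP (fun g hg =>
    hiso g (mem_centralizer_singleton_iff.1 (hPC hg)))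
  refine ⟨N, hN, hodd, ?_⟩
  rw [eq_top_iff]
  refine CpAut.TwoCov.sup_eq_top hz N hodd (fun g _ => ?_)
  have h2 := N.inv_mem (hc g)
  have h3 : (z * g * z⁻¹ * g⁻¹)⁻¹ = g * z * g⁻¹ * z⁻¹ := by group
  rwa [h3] at h2

/-- the invariant Sylow subgroup -/
theorem exists_inv_sylow {z : X} {N : Subgroup X} (hN : N.Normal) (hodd : Odd (Nat.card N))
    (hsup : N ⊔ centralizer ({z} : Set X) = ⊤) {Q : Subgroup X} (hQ : IsPGroup 2 Q) {t : ℕ} (ht : t.Prime)
    (htC : ¬ t ∣ Nat.card (centralizer ({z} : Set X))) :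
    ∃ R : Subgroup X, IsPGroup t R ∧ ¬ t ∣ R.index ∧ R ≤ N ∧ Q ≤ normalizer (R : Set X) ∧
      ∀ r ∈ R, r * z = z * r → r = 1 := by
  have : Fact (Nat.Prime 2) := ⟨Nat.prime_two⟩
  have hft : Fact t.Prime := ⟨ht⟩
  obtain ⟨R, ⟨T, hT⟩, hinv⟩ := Lib.PGroupCoprimeAction.exists_invariant_sylow hQ
    (fun h => Nat.not_even_iff_odd.2 hodd (even_iff_two_dvd.2 h)) (fun b _ u hu => hN.conj_mem u hu b) t
  have hRp : IsPGroup t R := by rw [← hT]; exact T.isPGroup'.map _
  have hRN : R ≤ N := by rw [← hT]; exact map_subtype_le _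
  refine ⟨R, hRp, ?_, hRN, ?_, ?_⟩
  · have h1 : R.index = (T : Subgroup N).index * N.index := by
      rw [← hT]
      have := index_map (T : Subgroup N) N.subtype
      rwa [N.ker_subtype, sup_bot_eq, range_subtype] at this
    rw [h1, ht.dvd_mul, not_or]
    refine ⟨T.not_dvd_index, fun h => htC ?_⟩
    have h2 : N.index ∣ Nat.card (centralizer ({z} : Set X)) := by
      have h3 : (N.subgroupOf (centralizer ({z} : Set X))).index = N.index := by
        have h4 := relIndex_sup_right (H := centralizer ({z} : Set X)) (K := N)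
        rw [sup_comm, hsup, relIndex_top_right] at h4
        exact h4.symm
      rw [← h3]
      exact index_dvd_card _
    exact h.trans h2
  · intro q hq
    have hfin : Finite R := inferInstance
    exact mem_normalizer_fintype fun n hn => hinv q hq n hn
  · intro r hr hrz
    by_contra hne
    obtain ⟨n, hn⟩ := hRp ⟨r, hr⟩
    have hn' : r ^ t ^ n = 1 := congrArg Subtype.val hn
    have h1 : t ∣ orderOf r := by
      obtain ⟨k, -, hk⟩ := (Nat.dvd_prime_pow ht).1 (orderOf_dvd_of_pow_eq_one hn')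
      rw [hk]
      refine dvd_pow_self t ?_
      rintro rfl
      rw [pow_zero] at hk
      exact hne (orderOf_eq_one_iff.1 hk)
    apply htC
    have h2 : r ∈ centralizer ({z} : Set X) := mem_centralizer_singleton_iff.2 hrz
    rw [← Subgroup.orderOf_mk r h2] at h1
    exact h1.trans (orderOf_dvd_natCard _)

/-- a 2-group acting semiregularly -/
theorem eight_dvd_sub {z : X} {Q R : Subgroup X} (hQ : IsPGroup 2 Q) (h8 : 8 ∣ Nat.card Q)
    (hQz : ∀ g ∈ Q, g ≠ 1 → z ∈ zpowers g) (hn : Q ≤ normalizer (R : Set X))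
    (hR : ∀ r ∈ R, r * z = z * r → r = 1) : 8 ∣ Nat.card R - 1 := by
  have : Fact (Nat.Prime 2) := ⟨Nat.prime_two⟩
  by_contra hc
  have h1 : ¬ 2 ^ (2 + 1) ∣ Nat.card R - Nat.card (⊥ : Subgroup X) := by rwa [card_bot]
  obtain ⟨y, hyR, hy1, hd⟩ := H171.Odd.exists_small_orbit hQ hn
    (by rw [normalizer_eq_top_iff.2 inferInstance]; exact le_top) bot_le h1
  have hy1 : y ≠ 1 := fun h => hy1 (h ▸ one_mem _)
  have h2 : Q ⊓ centralizer ({y} : Set X) ≠ ⊥ := by
    intro h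
    rw [h, card_bot, one_mul] at hd
    have h3 := Nat.le_of_dvd (by norm_num) (h8.trans hd)
    norm_num at h3
  obtain ⟨⟨g, hgQ, hgy⟩, hg1⟩ := (Subgroup.ne_bot_iff_exists_ne_one).1 h2
  have hg1 : g ≠ 1 := fun h => hg1 (Subtype.ext h)
  apply hy1
  apply hR y hyR
  obtain ⟨n, hn'⟩ := mem_zpowers_iff.1 (hQz g hgQ hg1)
  rw [← hn']
  have hc : Commute y g := (mem_centralizer_singleton_iff.1 hgy).symm
  exact (hc.zpow_right n).eq

/-- **The exact power of `t`.** -/
theorem eight_dvd {z : X} (hz : orderOf z = 2)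
    (hiso : ∀ g : X, g * z * g⁻¹ * z = z * (g * z * g⁻¹) → g * z * g⁻¹ = z) {Q : Subgroup X} (hQ : IsPGroup 2 Q)
    (h8 : 8 ∣ Nat.card Q) (hQz : ∀ g ∈ Q, g ≠ 1 → z ∈ zpowers g) {t k : ℕ} (ht : t.Prime)
    (htC : ¬ t ∣ Nat.card (centralizer ({z} : Set X))) (hk : t ^ k ∣ Nat.card X) (hk' : ¬ t ^ (k + 1) ∣ Nat.card X) :
    8 ∣ t ^ k - 1 := by
  obtain ⟨N, hN, hodd, hsup⟩ := exists_odd_iso hz hiso
  obtain ⟨R, hRp, hRi, -, hn, hR⟩ := exists_inv_sylow hN hodd hsup hQ ht htC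
  have hft : Fact t.Prime := ⟨ht⟩
  obtain ⟨j, hj⟩ := hRp.exists_card_eq
  have h1 : j = k := by
    have h2 := R.card_mul_index
    rw [hj] at h2
    apply le_antisymm
    · by_contra hlt
      exact hk' ((pow_dvd_pow t (by omega : k + 1 ≤ j)).trans (Dvd.intro _ h2))
    · rw [← h2] at hk
      have h3 : t ^ k ∣ t ^ j :=
        (Nat.Coprime.pow_left _ ((Nat.Prime.coprime_iff_not_dvd ht).2 hRi)).dvd_of_dvd_mul_right hk
      exact (Nat.pow_dvd_pow_iff_le_right ht.one_lt).1 h3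
  rw [← h1, ← hj]
  exact eight_dvd_sub hQ h8 hQz hn hR

theorem not_dvd_card {z : X} (hz : orderOf z = 2)
    (hiso : ∀ g : X, g * z * g⁻¹ * z = z * (g * z * g⁻¹) → g * z * g⁻¹ = z) {Q : Subgroup X} (hQ : IsPGroup 2 Q)
    (h8 : 8 ∣ Nat.card Q) (hQz : ∀ g ∈ Q, g ≠ 1 → z ∈ zpowers g) {t : ℕ} (ht : t.Prime)
    (htC : ¬ t ∣ Nat.card (centralizer ({z} : Set X))) (ht2 : ¬ t ^ 2 ∣ Nat.card X) (ht8 : ¬ 8 ∣ t - 1) :
    ¬ t ∣ Nat.card X := by
  intro h
  apply ht8
  have := eight_dvd hz hiso hQ h8 hQz ht htC (k := 1) (by rwa [pow_one]) ht2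
  rwa [pow_one] at this

/-- the unique involution of a Sylow subgroup -/
theorem exists_quat {z : X} (hz : orderOf z = 2) (huniq : ∀ u : X, orderOf u = 2 → u * z = z * u → u = z)
    (h8 : 8 ∣ Nat.card X) : ∃ Q : Subgroup X, IsPGroup 2 Q ∧ 8 ∣ Nat.card Q ∧ ∀ g ∈ Q, g ≠ 1 → z ∈ zpowers g := by
  have : Fact (Nat.Prime 2) := ⟨Nat.prime_two⟩
  obtain ⟨P, hzP, hPC⟩ := exists_sylow_iso hz (fun g hg => huniq _ (by
    rw [← hz]; exact MulEquiv.orderOf_eq (MulAut.conj g) z) hg)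
  refine ⟨P, P.isPGroup', ?_, ?_⟩
  · have h1 : 2 ^ 3 ∣ Nat.card X := h8
    exact P.pow_dvd_card_of_pow_dvd_card h1
  · intro g hg hg1
    obtain ⟨n, hn⟩ := P.isPGroup' ⟨g, hg⟩
    have hn' : g ^ 2 ^ n = 1 := congrArg Subtype.val hn
    obtain ⟨m, -, hm⟩ := (Nat.dvd_prime_pow Nat.prime_two).1 (orderOf_dvd_of_pow_eq_one hn')
    have hm0 : m ≠ 0 := by
      rintro rfl
      rw [pow_zero] at hm
      exact hg1 (orderOf_eq_one_iff.1 hm)
    have h2 : orderOf (g ^ 2 ^ (m - 1)) = 2 := by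
      rw [orderOf_pow' g (pow_ne_zero _ two_ne_zero), hm, Nat.gcd_eq_right (pow_dvd_pow 2 (by omega)),
        Nat.pow_div (by omega) two_pos, show m - (m - 1) = 1 by omega, pow_one]
    have h3 : g ^ 2 ^ (m - 1) * z = z * g ^ 2 ^ (m - 1) :=
      mem_centralizer_singleton_iff.1 (hPC (P.pow_mem hg _))
    rw [← huniq _ h2 h3]
    exact pow_mem (mem_zpowers g) _

omit [Finite X] in
theorem iso_of_unique {z : X} (hz : orderOf z = 2) (huniq : ∀ u : X, orderOf u = 2 → u * z = z * u → u = z) :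
    ∀ g : X, g * z * g⁻¹ * z = z * (g * z * g⁻¹) → g * z * g⁻¹ = z := fun g hg => huniq _ (by
    rw [← hz]; exact MulEquiv.orderOf_eq (MulAut.conj g) z) hg

/-- **A second involution.** -/
theorem sq_dvd_cent {z u v : X} (hz : orderOf z = 2)
    (hiso : ∀ g : X, g * z * g⁻¹ * z = z * (g * z * g⁻¹) → g * z * g⁻¹ = z) (hu : u * u = 1) (huz : u * z = z * u)
    (hv : v * u * v⁻¹ = u * z) {P Q : Subgroup X} (hP : IsPGroup 2 P) (hQP : Q ≤ P) (hvP : v ∈ P) (huP : u ∈ P)
    (hzP : z ∈ P) (h8 : 8 ∣ Nat.card Q) (hQz : ∀ g ∈ Q, g ≠ 1 → z ∈ zpowers g) (hQu : ∀ g ∈ Q, g * u = u * g)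
    {t : ℕ} (ht : t.Prime) (htC : ¬ t ∣ Nat.card (centralizer ({z} : Set X))) (ht8 : ¬ 8 ∣ t - 1)
    (htX : t ∣ Nat.card X) : t ^ 2 ∣ Nat.card (centralizer ({u} : Set X)) := by
  obtain ⟨N, hN, hodd, hsup⟩ := exists_odd_iso hz hiso
  obtain ⟨R, hRp, hRi, hRN, hn, hR⟩ := exists_inv_sylow hN hodd hsup hP ht htC
  have hft : Fact t.Prime := ⟨ht⟩
  have hRodd : Odd (Nat.card R) := Odd.of_dvd_nat hodd (card_dvd_of_le hRN)
  have hconj : ∀ g ∈ P, ∀ r ∈ R, g * r * g⁻¹ ∈ R := fun g hg r hr => (mem_normalizer_iff.1 (hn hg) r).1 hr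
  have hzz : z * z = 1 := by rw [← pow_two, ← hz, pow_orderOf_eq_one]
  -- the fixed points of `u`
  have hRu : R ⊓ centralizer ({u} : Set X) ≠ ⊥ := by
    intro h0
    have h1 : R ≤ ⊥ := by
      refine Lib.KleinGen.le_of_klein R ⊥ hRodd u z hu hzz huz (hconj u huP) (hconj z hzP) h0.le ?_ ?_
      · rintro r ⟨hr, hrz⟩
        exact mem_bot.2 (hR r hr (mem_centralizer_singleton_iff.1 hrz))
      · rintro r ⟨hr, hrz⟩
        have h2 : v⁻¹ * r * v ∈ R := by
          have := hconj v⁻¹ (P.inv_mem hvP) r hr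
          rwa [inv_inv] at this
        have h3 : v⁻¹ * r * v ∈ centralizer ({u} : Set X) := by
          have hrz : r * (u * z) = u * z * r := mem_centralizer_singleton_iff.1 hrz
          rw [mem_centralizer_singleton_iff]
          rw [← hv] at hrz
          calc v⁻¹ * r * v * u = v⁻¹ * (r * (v * u * v⁻¹)) * v := by group
            _ = v⁻¹ * (v * u * v⁻¹ * r) * v := by rw [hrz]
            _ = u * (v⁻¹ * r * v) := by group
        have h4 : v⁻¹ * r * v ∈ (⊥ : Subgroup X) := by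
          rw [← h0]
          exact ⟨h2, h3⟩
        rw [mem_bot] at h4 ⊢
        have h5 : r = v * (v⁻¹ * r * v) * v⁻¹ := by group
        rw [h5, h4, mul_one, mul_inv_cancel]
    rw [le_bot_iff] at h1
    apply hRi
    have h2 := R.card_mul_index
    rw [h1, card_bot, one_mul] at h2
    rw [h1, h2]
    exact htX
  -- `Q` acts on them
  have hQn : Q ≤ normalizer ((R ⊓ centralizer ({u} : Set X) : Subgroup X) : Set X) := by
    intro g hg
    refine mem_normalizer_fintype ?_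
    rintro r ⟨hr, hru⟩
    refine ⟨hconj g (hQP hg) r hr, ?_⟩
    have hru : r * u = u * r := mem_centralizer_singleton_iff.1 hru
    refine mem_centralizer_singleton_iff.2 ?_
    have h1 := hQu g hg
    have h2 : g⁻¹ * u = u * g⁻¹ := (show Commute g u from h1).inv_left.eq
    calc g * r * g⁻¹ * u = g * r * (g⁻¹ * u) := by group
      _ = g * (r * u) * g⁻¹ := by rw [h2]; group
      _ = (g * u) * r * g⁻¹ := by rw [hru]; group
      _ = u * (g * r * g⁻¹) := by rw [h1]; group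
  have h8' := eight_dvd_sub (hQ := hP.to_le hQP) h8 hQz hQn (fun r hr => hR r hr.1)
  obtain ⟨j, hj⟩ := (hRp.to_le (inf_le_left (b := centralizer ({u} : Set X)))).exists_card_eq
  rw [hj] at h8'
  have hj2 : 2 ≤ j := by
    by_contra hlt
    interval_cases j
    · rw [pow_zero] at hj
      exact hRu (card_eq_one.1 hj)
    · rw [pow_one] at h8'
      exact ht8 h8'
  have h9 : t ^ 2 ∣ Nat.card ↥(R ⊓ centralizer ({u} : Set X)) := by
    rw [hj]
    exact pow_dvd_pow t hj2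
  exact h9.trans (card_dvd_of_le inf_le_right)

end Cfsg.Agent.H555.Hall
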