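import Cfsg.Agent.H555.Hall.Sq
import Cfsg.Agent.H555.Hall.ZStar
import Cfsg.Agent.CpAutHN.Pairs

/-!
# The Harada–Norton group: `Inv1 3 t`, `t = 7, 11` (helper555)
-/

set_option autoImplicit false
set_option maxRecDepth 100000

namespace Cfsg.Agent.H555.Hall.HNThree

open Cfsg.Agent.HN.Pres Cfsg.Agent.HN.P1408 Cfsg.Agent.HN.H0Basic
open Cfsg.Agent.HN.XWords (W0 W0_sq)
open Cfsg.Agent
open Cfsg.Agent.KFacts.HN
open Cfsg.Agent.KFacts.HN.Classes
open Cfsg.Agent.CpAutHN.LqFacts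
open Cfsg.Agent.CpAutHN.PPFacts
open Cfsg.Agent.CpAutHN.Alt
open Cfsg.Agent.CpAutHN.Tr
open Cfsg.Agent.CpAutHN.Pairs
open Subgroup

/-- the 9-cycle -/
def c9 : Equiv.Perm (Fin 12) := cy [0, 3, 6, 1, 4, 7, 2, 5, 8]

theorem c9_mem : c9 ∈ alternatingGroup (Fin 12) := by rw [Equiv.Perm.mem_alternatingGroup]; decide +kernel

theorem c9_cube : c9 ^ 3 = CpAutHN.Alt.x3 := by decide +kernel

/-- the element of order 9 -/
noncomputable def X9 : G := Φ ⟨c9, c9_mem⟩

theorem X9_cube : X9 ^ 3 = X3 := by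
  have h1 : (⟨c9, c9_mem⟩ : A12) ^ 3 = ⟨CpAutHN.Alt.x3, x3_mem⟩ := Subtype.ext c9_cube
  change (Φ ⟨c9, c9_mem⟩) ^ 3 = Φ ⟨CpAutHN.Alt.x3, x3_mem⟩
  rw [← map_pow, h1]

theorem order_X9 : orderOf X9 = 3 ^ 2 := by
  have : Fact (Nat.Prime 3) := ⟨Nat.prime_three⟩
  refine orderOf_eq_prime_pow (p := 3) (n := 1) (x := X9) ?_ ?_
  · rw [pow_one, X9_cube]
    intro h
    have h1 := order_X3
    rw [h, orderOf_one] at h1
    norm_num at h1
  · rw [show 3 ^ (1 + 1) = 3 * 3 by norm_num, pow_mul, X9_cube, ← order_X3, pow_orderOf_eq_one]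

theorem eight_dvd_T1 {x s : G} (h3 : orderOf x = 3) (h : T1 x s) : 8 ∣ Nat.card ↥(centralizer ({x} : Set G)) := by
  have hfin := finite_HN
  obtain ⟨g, hg, hs, hρ⟩ := h
  set y : PP := ⟨g * x * g⁻¹, hg⟩ with hy
  have hy3 : orderOf y = 3 := order_sub hg (order_conj h3 g)
  let f : ↥(centralizer ({y} : Set PP)) →* Lq := ρ.comp (centralizer ({y} : Set PP)).subtype
  -- the range
  have hr : φB.range ≤ f.range := by
    rintro _ ⟨b, rfl⟩
    obtain ⟨v, hv⟩ := ρ_surj (φB b)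
    have hc : ρ v * ρ y = ρ y * ρ v := by
      rw [hv, hρ]
      exact (comm_AB c0 b).symm
    obtain ⟨q, hq, hqv⟩ := CpAutTh.RankOne.exists_comm Nat.prime_two Nat.prime_three (by norm_num) ρ isPGroup_ker hy3 hc
    refine ⟨⟨q * v, mem_centralizer_singleton_iff.2 hqv⟩, ?_⟩
    change ρ (q * v) = φB b
    rw [map_mul, MonoidHom.mem_ker.1 hq, one_mul, hv]
  have h4 : 4 ∣ Nat.card f.range := by
    refine dvd_trans ?_ (card_dvd_of_le hr)
    rw [← Nat.card_congr (MonoidHom.ofInjective φB_inj).toEquiv]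
    have h1 := nat_card_alternatingGroup (α := Fin 5)
    rw [Nat.card_fin] at h1
    have h2 : Nat.card A5 = 60 := h1
    rw [h2]
    norm_num
  have h2 : 2 ∣ Nat.card f.ker := by
    have hW : (⟨W0, W0_mem_PP⟩ : PP) ∈ centralizer ({y} : Set PP) := by
      rw [mem_centralizer_singleton_iff]
      apply Subtype.ext
      exact (mem_PP.1 y.2).symm
    have hWk : (⟨_, hW⟩ : ↥(centralizer ({y} : Set PP))) ∈ f.ker := by
      rw [MonoidHom.mem_ker]
      change (QuotientGroup.mk' Rk) ((QuotientGroup.mk' (Cfsg.Agent.HN.XQuot.Zw W0)) ⟨W0, W0_mem_PP⟩) = 1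
      have h1 : (QuotientGroup.mk' (Cfsg.Agent.HN.XQuot.Zw W0)) ⟨W0, W0_mem_PP⟩ = 1 :=
        (QuotientGroup.eq_one_iff _).2 (mem_zpowers _)
      rw [h1, map_one]
    have ho : orderOf (⟨_, hWk⟩ : ↥f.ker) = 2 := by
      rw [Subgroup.orderOf_mk, Subgroup.orderOf_mk, ← Subgroup.orderOf_coe]
      have : Fact (Nat.Prime 2) := ⟨Nat.prime_two⟩
      exact orderOf_eq_prime (by rw [pow_two]; exact W0_sq) W0_ne
    rw [← ho]
    exact orderOf_dvd_natCard _
  have h8 : 8 ∣ Nat.card ↥(centralizer ({y} : Set PP)) := by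
    rw [← f.ker.card_mul_index, Subgroup.index_ker]
    exact Nat.mul_dvd_mul h2 h4
  -- `C_PP(y) → C(x)`
  refine h8.trans ?_
  let j : ↥(centralizer ({y} : Set PP)) →* ↥(centralizer ({x} : Set G)) :=
    { toFun := fun v => ⟨g⁻¹ * ((v : PP) : G) * g, by
        rw [mem_centralizer_singleton_iff]
        have h5 : ((v : PP) : G) * (g * x * g⁻¹) = g * x * g⁻¹ * ((v : PP) : G) :=
          congrArg Subtype.val (mem_centralizer_singleton_iff.1 v.2)
        calc g⁻¹ * ((v : PP) : G) * g * x = g⁻¹ * (((v : PP) : G) * (g * x * g⁻¹)) * g := by group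
          _ = g⁻¹ * (g * x * g⁻¹ * ((v : PP) : G)) * g := by rw [h5]
          _ = _ := by group⟩
      map_one' := Subtype.ext (by change g⁻¹ * 1 * g = 1; group)
      map_mul' := fun a b => Subtype.ext (by
        change g⁻¹ * (((a : PP) : G) * ((b : PP) : G)) * g = g⁻¹ * ((a : PP) : G) * g * (g⁻¹ * ((b : PP) : G) * g)
        group) }
  refine card_dvd_of_injective j ?_
  intro a b hab
  have h5 : g⁻¹ * ((a : PP) : G) * g = g⁻¹ * ((b : PP) : G) * g := congrArg Subtype.val hab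
  exact Subtype.ext (Subtype.ext (mul_left_cancel (mul_right_cancel h5)))

theorem not_dvd_X3 {t : ℕ} (ht : t.Prime) (htW : ¬ t ∣ 3686400) (ht2 : ¬ t ^ 2 ∣ 273030912000000) (ht8 : ¬ 8 ∣ t - 1) :
    ¬ t ∣ Nat.card ↥(centralizer ({X3} : Set G)) := by
  have hfin := finite_HN
  have hSX : CpAutHN.Pairs.S3 ∈ centralizer ({X3} : Set G) := mem_centralizer_singleton_iff.2
    (comm_of s3_mem x3_mem (by decide +kernel))
  have hs : orderOf (⟨CpAutHN.Pairs.S3, hSX⟩ : ↥(centralizer ({X3} : Set G))) = 2 := by rw [Subgroup.orderOf_mk, order_S3]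
  have huniq : ∀ u : ↥(centralizer ({X3} : Set G)), orderOf u = 2 → u * ⟨CpAutHN.Pairs.S3, hSX⟩ = ⟨CpAutHN.Pairs.S3, hSX⟩ * u → u = ⟨CpAutHN.Pairs.S3, hSX⟩ := by
    rintro ⟨u, hu⟩ h1 h2
    apply Subtype.ext
    rw [Subgroup.orderOf_mk] at h1
    exact t1_x3.unique h1 (mem_centralizer_singleton_iff.1 hu) (congrArg Subtype.val h2)
  obtain ⟨Q, hQ, hQ8, hQz⟩ := exists_quat hs huniq (eight_dvd_T1 order_X3 t1_x3)
  refine not_dvd_card hs (iso_of_unique hs huniq) hQ hQ8 hQz ht ?_ ?_ ht8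
  · intro hd
    apply htW
    have h1 : Nat.card ↥(centralizer ({CpAutHN.Pairs.S3} : Set G)) = 3686400 := by
      rw [← Cfsg.Agent.KFacts.HN.PCard.card_centralizer]
      exact card_cent_conj (isConj_W0_of_tr order_S3 tr_s3)
    rw [← h1]
    refine hd.trans ?_
    let j : ↥(centralizer ({(⟨CpAutHN.Pairs.S3, hSX⟩ : ↥(centralizer ({X3} : Set G)))} : Set ↥(centralizer ({X3} : Set G)))) →*
        ↥(centralizer ({CpAutHN.Pairs.S3} : Set G)) :=
      { toFun := fun u => ⟨((u : ↥(centralizer ({X3} : Set G))) : G), mem_centralizer_singleton_iff.2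
          (congrArg Subtype.val (mem_centralizer_singleton_iff.1 u.2))⟩
        map_one' := rfl
        map_mul' := fun _ _ => rfl }
    refine card_dvd_of_injective j ?_
    intro a b hab
    have h5 : ((j a : ↥(centralizer ({CpAutHN.Pairs.S3} : Set G))) : G) = j b := by rw [hab]
    exact Subtype.ext (Subtype.ext h5)
  · intro hd
    apply ht2
    have h1 := hd.trans (card_subgroup_dvd_card (centralizer ({X3} : Set G)))
    rwa [Classes.card_HN] at h1

theorem inv1_three {t : ℕ} (ht : t.Prime) (htW : ¬ t ∣ 3686400) (ht2 : ¬ t ^ 2 ∣ 273030912000000) (ht8 : ¬ 8 ∣ t - 1)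
    (ht9 : ¬ 3 ^ 2 ∣ t - 1) : Cfsg.Agent.H171.Odd.Inv1 3 t G := by
  have hfin := finite_HN
  refine inv1_of_sq Nat.prime_three ht (b := 1) (by rw [Classes.card_HN]; exact ht2) ?_ order_X9 ?_
  · intro k h1 h2
    have h3 : k = 1 := by omega
    subst h3
    rwa [pow_one]
  · rw [X9_cube]
    exact not_dvd_X3 ht htW ht2 ht8

end Cfsg.Agent.H555.Hall.HNThree
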