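import Cfsg.Agent.H555.Hall.Num

/-!
# `PairN t s G` if the Sylow `s`-subgroups are not abelian (helper555)

`pairN_of_nonab` : `t` divides `|G|` at most once, `s ^ (a + 1) ∤ |G|`, `t ∤ s ^ i - 1` for `1 ≤ i < a`, the subgroups of
order `s ^ a` are not abelian: `PairN t s G`.
-/

set_option autoImplicit false

namespace Cfsg.Agent.H555.Hall

open Subgroup Cfsg Cfsg.Agent.H988.CPi Cfsg.Agent.H553.OddHall Cfsg.Agent.H165.ZJCrit MulAction

/-- A group of order prime to ... with self-normalising Sylow subgroup of order `t` or `1`. -/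
theorem ns_of_nonab {X : Type*} [Group X] [Finite X] {s t a : ℕ} (hs : s.Prime) (ht : t.Prime) (hst : s ≠ t)
    (ha : 1 ≤ a) (hX : ∀ p : ℕ, p.Prime → p ∣ Nat.card X → p = s ∨ p = t) (hsa : ¬ s ^ (a + 1) ∣ Nat.card X)
    (ht1 : ¬ t ^ 2 ∣ Nat.card X) (h : ∀ i, 1 ≤ i → i < a → ¬ t ∣ s ^ i - 1)
    (hS : ∀ S : Subgroup X, Nat.card S = s ^ a → ∃ x ∈ S, ∃ y ∈ S, x * y ≠ y * x) : NS t X := by
  have ht' : Fact t.Prime := ⟨ht⟩
  have hs' : Fact s.Prime := ⟨hs⟩
  obtain ⟨T⟩ : Nonempty (Sylow t X) := inferInstance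
  refine ns_of_sylow T ?_
  have h0 : Nat.card (Sylow t X) = (normalizer ((T : Subgroup X) : Set X)).index :=
    Sylow.card_eq_index_normalizer T
  set N := normalizer ((T : Subgroup X) : Set X) with hN
  have h1 : Nat.card (Sylow t X) ≡ 1 [MOD t] := card_sylow_modEq_one t X
  have h2 : Nat.card (Sylow t X) ∣ (T : Subgroup X).index := T.card_dvd_index
  have h3 : ¬ t ∣ (T : Subgroup X).index := T.not_dvd_index
  have h4 : ∃ i, Nat.card (Sylow t X) = s ^ i := by
    refine ⟨(Nat.card (Sylow t X)).primeFactorsList.length, ?_⟩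
    refine Nat.eq_prime_pow_of_unique_prime_dvd Nat.card_pos.ne' ?_
    intro p hp hd
    have h5 : p ∣ (T : Subgroup X).index := hd.trans h2
    rcases hX p hp (h5.trans (index_dvd_card _)) with h6 | h6
    · exact h6
    · exact absurd (h6 ▸ h5) h3
  obtain ⟨i, hi⟩ := h4
  rcases Nat.eq_zero_or_pos i with h5 | h5
  · rw [← normalizer_eq_top_iff, ← index_eq_one, ← h0, hi, h5, pow_zero]
  exfalso
  have key : ∀ j, 1 ≤ j → s ^ j ≡ 1 [MOD t] → t ∣ s ^ j - 1 := fun j hj h6 =>
    (Nat.modEq_iff_dvd' (Nat.one_le_iff_ne_zero.mpr (pow_ne_zero _ hs.ne_zero))).mp h6.symm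
  have hia : i = a := by
    have h6 : i ≤ a := by
      by_contra hlt
      apply hsa
      have h7 : s ^ i ∣ Nat.card X := by rw [← hi]; exact h2.trans (index_dvd_card _)
      exact (pow_dvd_pow s (by omega)).trans h7
    rcases Nat.lt_or_ge i a with h7 | h7
    · exact absurd (key i h5 (hi ▸ h1)) (h i h5 h7)
    · omega
  subst hia
  -- `N = T`
  have hNi : Nat.card N * s ^ i = Nat.card X := by rw [← hi, h0]; exact N.card_mul_index
  obtain ⟨b, hb⟩ := IsPGroup.iff_card.mp T.2
  have hTN : (T : Subgroup X) ≤ N := le_normalizer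
  have hNs : ¬ s ∣ Nat.card N := by
    intro hd
    apply hsa
    rw [← hNi, pow_succ, mul_comm (s ^ i)]
    exact mul_dvd_mul hd (dvd_refl _)
  have hNT : N = (T : Subgroup X) := by
    refine (eq_of_le_of_card_ge hTN ?_).symm
    have h6 : (T : Subgroup X).relIndex N = 1 := by
      by_contra hne
      obtain ⟨p, hp, hd⟩ := Nat.exists_prime_and_dvd hne
      have h7 : p ∣ Nat.card N := hd.trans (index_dvd_card _)
      rcases hX p hp (h7.trans (card_subgroup_dvd_card N)) with h8 | h8
      · exact hNs (h8 ▸ h7)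
      · subst h8
        have h9 : (T : Subgroup X).relIndex N ∣ (T : Subgroup X).index := relIndex_dvd_index_of_le hTN
        exact h3 (hd.trans h9)
    have h10 : Nat.card ((T : Subgroup X).subgroupOf N) * (T : Subgroup X).relIndex N = Nat.card N :=
      card_mul_index _
    rw [h6, mul_one, Nat.card_congr (subgroupOfEquivOfLe hTN).toEquiv] at h10
    exact h10.ge
  have hb1 : b ≤ 1 := by
    by_contra hlt
    apply ht1
    have h6 : t ^ b ∣ Nat.card X := by rw [← hb]; exact card_subgroup_dvd_card _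
    exact (pow_dvd_pow t (by omega)).trans h6
  have hTcomm : ∀ x ∈ (T : Subgroup X), ∀ y ∈ (T : Subgroup X), x * y = y * x := by
    have hcyc : IsCyclic (T : Subgroup X) := by
      have hcard : Nat.card (T : Subgroup X) = t ^ b := hb
      interval_cases b
      · rw [pow_zero] at hcard
        have : Subsingleton (T : Subgroup X) := (Nat.card_eq_one_iff_unique.mp hcard).1
        infer_instance
      · rw [pow_one] at hcard
        exact isCyclic_of_prime_card hcard
    intro x hx y hy
    have h6 : IsMulCommutative (T : Subgroup X) := inferInstance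
    exact congrArg Subtype.val (h6.is_comm.comm (⟨x, hx⟩ : (T : Subgroup X)) ⟨y, hy⟩)
  have hP : normalizer ((T : Subgroup X) : Set X) ≤ centralizer ((T : Subgroup X) : Set X) := by
    intro x hx
    have hx' : x ∈ (T : Subgroup X) := by rw [← hNT]; exact hx
    rw [mem_centralizer_iff]
    intro y hy
    exact hTcomm y hy x hx'
  have hcompl := MonoidHom.ker_transferSylow_isComplement' T hP
  set K := (MonoidHom.transferSylow T hP).ker with hK
  have hKn : K.Normal := inferInstance
  have hKc : Nat.card K = s ^ i := by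
    have h6 := hcompl.card_mul_card
    rw [← hNi, hNT, mul_comm (Nat.card (T : Subgroup X))] at h6
    exact Nat.eq_of_mul_eq_mul_right Nat.card_pos h6
  obtain ⟨x, hx, y, hy, hxy⟩ := hS K hKc
  -- the centre of `K`
  let Z : Subgroup X := (center K).map K.subtype
  have hZn : Z.Normal := inferInstanceAs ((center K).map K.subtype).Normal
  let act : MulAction (T : Subgroup X) Z :=
    { smul := fun g z => ⟨(g : X) * z.1 * (g : X)⁻¹, hZn.conj_mem _ z.2 _⟩
      one_smul := by
        intro z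
        apply Subtype.ext
        show ((1 : (T : Subgroup X)) : X) * z.1 * ((1 : (T : Subgroup X)) : X)⁻¹ = z.1
        simp
      mul_smul := by
        intro a b z
        apply Subtype.ext
        show ((a * b : (T : Subgroup X)) : X) * z.1 * ((a * b : (T : Subgroup X)) : X)⁻¹ =
          a * (b * z.1 * (b : X)⁻¹) * (a : X)⁻¹
        simp [mul_assoc] }
  have hfix : Nat.card (fixedPoints (T : Subgroup X) Z) = 1 := by
    rw [Nat.card_eq_one_iff_unique]
    refine ⟨⟨fun u v => ?_⟩, ⟨⟨1, fun g => ?_⟩⟩⟩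
    · have key2 : ∀ w : fixedPoints (T : Subgroup X) Z, (w : Z) = 1 := by
        rintro ⟨w, hw⟩
        have h6 : (w : X) ∈ centralizer ((T : Subgroup X) : Set X) := by
          rw [mem_centralizer_iff]
          intro g hg
          have h7 : (g : X) * w.1 * g⁻¹ = w.1 := congrArg Subtype.val (hw ⟨g, hg⟩)
          rwa [mul_inv_eq_iff_eq_mul] at h7
        have h7 : (w : X) ∈ (T : Subgroup X) := by
          rw [← hNT]
          exact centralizer_le_normalizer _ h6
        have h8 : (w : X) ∈ K := map_subtype_le _ w.2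
        have h9 : (w : X) ∈ K ⊓ (T : Subgroup X) := ⟨h8, h7⟩
        rw [hcompl.disjoint.eq_bot, mem_bot] at h9
        exact Subtype.ext h9
      exact Subtype.ext ((key2 u).trans (key2 v).symm)
    · apply Subtype.ext
      show (g : X) * ((1 : Z) : X) * (g : X)⁻¹ = ((1 : Z) : X)
      simp
  have hZ1 : Nat.card Z ≡ 1 [MOD t] := by
    have h6 := IsPGroup.card_modEq_card_fixedPoints (p := t) T.2 Z
    rwa [hfix] at h6
  have hKp : IsPGroup s K := IsPGroup.of_card hKc
  have hZc : Nat.card Z = Nat.card (center K) := card_map_of_injective K.subtype_injective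
  obtain ⟨j, hj⟩ := IsPGroup.iff_card.mp (hKp.to_subgroup (center K))
  have hnt : Nontrivial K := by
    rw [← Finite.one_lt_card_iff_nontrivial, hKc]
    exact Nat.one_lt_pow (by omega) hs.one_lt
  have hj0 : j ≠ 0 := by
    rintro rfl
    have h6 := hKp.center_nontrivial
    rw [← Finite.one_lt_card_iff_nontrivial, hj, pow_zero] at h6
    omega
  have hji : j ≤ i := by
    have h6 := card_subgroup_dvd_card (center K)
    rw [hj, hKc] at h6
    exact (Nat.pow_dvd_pow_iff_le_right hs.one_lt).mp h6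
  have hji' : j = i := by
    rcases Nat.lt_or_ge j i with h7 | h7
    · exact absurd (key j (by omega) (by rw [← hj, ← hZc]; exact hZ1)) (h j (by omega) h7)
    · omega
  have hcen : center K = ⊤ := by
    apply eq_top_of_card_eq
    rw [hj, hKc, hji']
  have h6 : (⟨x, hx⟩ : K) ∈ center K := by rw [hcen]; trivial
  exact hxy (congrArg Subtype.val (mem_center_iff.mp h6 ⟨y, hy⟩)).symm

/-- **`PairN t s G` if the Sylow `s`-subgroups are not abelian.** -/
theorem pairN_of_nonab {G : Type*} [Group G] [Finite G] {s t a : ℕ} (hs : s.Prime) (ht : t.Prime) (hst : s ≠ t)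
    (ha : 1 ≤ a) (hsa : ¬ s ^ (a + 1) ∣ Nat.card G) (ht1 : ¬ t ^ 2 ∣ Nat.card G)
    (h : ∀ i, 1 ≤ i → i < a → ¬ t ∣ s ^ i - 1)
    (hS : ∀ S : Subgroup G, Nat.card S = s ^ a → ∃ x ∈ S, ∃ y ∈ S, x * y ≠ y * x) : PairN t s G := by
  intro X hX
  refine ns_of_nonab hs ht hst ha (fun p hp hd => ?_) (fun hd => hsa (hd.trans (card_subgroup_dvd_card X)))
    (fun hd => ht1 (hd.trans (card_subgroup_dvd_card X))) h ?_
  · rcases hX.1 p hp hd with h1 | h1
    · exact Or.inl h1
    · exact Or.inr h1
  · intro S hSc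
    obtain ⟨x, hx, y, hy, hxy⟩ := hS (S.map X.subtype) (by rw [card_map_of_injective X.subtype_injective, hSc])
    obtain ⟨x', hx', rfl⟩ := hx
    obtain ⟨y', hy', rfl⟩ := hy
    refine ⟨x', hx', y', hy', fun he => hxy ?_⟩
    rw [← map_mul, he, map_mul]

/-- the Sylow form of the hypothesis -/
theorem nonab_of_pair {G : Type*} [Group G] [Finite G] {s a : ℕ} (hs : s.Prime) (hsa : ¬ s ^ (a + 1) ∣ Nat.card G)
    {P : Subgroup G} (hP : IsPGroup s P) {x y : G} (hx : x ∈ P) (hy : y ∈ P)
    (hxy : x * y ≠ y * x) (S : Subgroup G) (hS : Nat.card S = s ^ a) : ∃ x ∈ S, ∃ y ∈ S, x * y ≠ y * x := by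
  have hs' : Fact s.Prime := ⟨hs⟩
  have hSp : IsPGroup s S := IsPGroup.of_card hS
  obtain ⟨S', hS'⟩ := hSp.exists_le_sylow
  obtain ⟨P', hP'⟩ := hP.exists_le_sylow
  have hSS : S = (S' : Subgroup G) := by
    refine eq_of_le_of_card_ge hS' ?_
    obtain ⟨n, hn⟩ := IsPGroup.iff_card.mp S'.2
    have h1 : s ^ n ∣ Nat.card G := hn ▸ card_subgroup_dvd_card (S' : Subgroup G)
    have h2 : n ≤ a := by
      by_contra hlt
      exact hsa ((pow_dvd_pow s (by omega)).trans h1)
    change Nat.card (S' : Subgroup G) ≤ Nat.card S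
    rw [hn, hS]
    exact Nat.pow_le_pow_right hs.pos h2
  obtain ⟨g, hg⟩ := MulAction.exists_smul_eq G P' S'
  have hmem : ∀ u ∈ P, g * u * g⁻¹ ∈ S := by
    intro u hu
    rw [hSS, ← hg]
    exact (Subgroup.smul_mem_pointwise_smul_iff (a := MulAut.conj g) (S := (P' : Subgroup G)) (x := u)).mpr (hP' hu)
  refine ⟨_, hmem x hx, _, hmem y hy, fun he => hxy ?_⟩
  have h1 : g * (x * y) * g⁻¹ = g * (y * x) * g⁻¹ := by
    calc g * (x * y) * g⁻¹ = g * x * g⁻¹ * (g * y * g⁻¹) := by group
      _ = g * y * g⁻¹ * (g * x * g⁻¹) := he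
      _ = g * (y * x) * g⁻¹ := by group
  exact mul_left_cancel (mul_right_cancel h1)

end Cfsg.Agent.H555.Hall
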