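import Cfsg.Agent.H171.Odd.Cert
import Cfsg.Agent.H555.Hall.NonAb

/-!
# A certificate for `OddC` with three kinds of pairs (helper555)

`oddC_of_cert3` : as `H171.Odd.oddC_of_cert`, with a second table `E` of pairs `(t, s)` with `PairN t s G`.
-/

set_option autoImplicit false

namespace Cfsg.Agent.H555.Hall

open Subgroup Cfsg Cfsg.Agent.H988.CPi Cfsg.Agent.H553.OddHall Cfsg.Agent.H165.ZJCrit Cfsg.Agent.H171.Odd
open scoped Pointwise

universe u

/-- **One prime dominates.** -/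
theorem conj_of_pairN {G : Type u} [Group G] [Finite G] [IsSimpleGroup G] (hna : ¬ IsMulCommutative G)
    (hind : OddInd G) {π : Set ℕ} (h2 : 2 ∉ π) {r : ℕ} (hr : r.Prime) (hrπ : r ∈ π) (hrG : r ∣ Nat.card G)
    (hD : ∀ p : ℕ, p.Prime → p ∈ π → p ≠ r → p ∣ Nat.card G → PairN r p G)
    {H K : Subgroup G} (hH : IsPiHall π H) (hK : IsPiHall π K) : ∃ g : G, K = MulAut.conj g • H := by
  have hfr : Fact r.Prime := ⟨hr⟩
  have key : ∀ X : Subgroup G, IsPiHall π X → ∃ P : Sylow r G, (P : Subgroup G) ≤ X ∧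
      X ≤ normalizer ((P : Subgroup G) : Set G) := by
    intro X hX
    obtain ⟨P⟩ : Nonempty (Sylow r X) := inferInstance
    have hPn := (ns_of_pairs h2 hr hrπ hD hX).sylow_normal P
    have h3 : IsPGroup r ((P : Subgroup X).map X.subtype) := P.isPGroup'.map _
    refine ⟨h3.toSylow (not_dvd_index_map hrπ hX P), ?_, ?_⟩
    · rw [IsPGroup.toSylow_coe]
      exact map_subtype_le _
    · rw [IsPGroup.toSylow_coe]
      have h7 := le_normalizer_map (H := (P : Subgroup X)) X.subtype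
      rw [normalizer_eq_top_iff.2 hPn] at h7
      have h8 : (⊤ : Subgroup X).map X.subtype = X := by rw [← MonoidHom.range_eq_map, range_subtype]
      rw [h8] at h7
      exact h7
  obtain ⟨P, hPH, hPn⟩ := key H hH
  obtain ⟨Q, hQK, hQn⟩ := key K hK
  obtain ⟨g, hg⟩ := MulAction.exists_smul_eq G P Q
  have hg' : (Q : Subgroup G) = (P : Subgroup G).map (MulAut.conj g).toMonoidHom := by
    rw [← hg]; rfl
  have hQb : (Q : Subgroup G) ≠ ⊥ := by
    intro h
    have h3 := Q.card_mul_index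
    rw [h, card_bot, one_mul] at h3
    exact Q.not_dvd_index (h ▸ (by rw [h3]; exact hrG))
  have hle : MulAut.conj g • H ≤ normalizer ((Q : Subgroup G) : Set G) := by
    rw [hg']
    have h5 : (MulAut.conj g • H) = H.map (MulAut.conj g).toMonoidHom := rfl
    rw [h5]
    refine (map_mono hPn).trans ?_
    exact le_normalizer_map _
  obtain ⟨k, hk⟩ := conj_of_common hind h2 hQb (sylow_ne_top hna Q.isPGroup') (H171.Odd.isPiHall_smul hH g) hK hle hQn
  exact ⟨k * g, by rw [hk, map_mul, mul_smul]⟩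

/-- the condition for one set of primes -/
def okS3 (T E : List (ℕ × ℕ)) (σ : List (ℕ × ℕ)) : Bool :=
  σ.isEmpty || (σ.any fun s => σ.all fun t => Nat.beq t.1 s.1 || inT T s.1 t.1) ||
    (σ.any fun r => σ.all fun p => dm r.1 p || inT E r.1 p.1)

/-- the certificate: `N` the order, `L` the odd primes with exponents, `T`, `E` the tables -/
def okCert3 (N : ℕ) (L T E : List (ℕ × ℕ)) : Bool :=
  Nat.beq ((2 * (L.map Prod.fst).prod) ^ 64 % N) 0 && (L.all fun x => !(Nat.beq (N % x.1 ^ (x.2 + 1)) 0) && Nat.beq (N % x.1) 0) &&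
    (L.sublists.all fun σ => okS3 T E σ)

/-- **The certificate**: `(s, t) ∈ T` means `Inv1 s t G`, `(t, s) ∈ E` means `PairN t s G`. -/
theorem oddC_of_cert3 {G : Type u} [Group G] [Finite G] [IsSimpleGroup G] (hna : ¬ IsMulCommutative G)
    (hind : OddInd G) {N : ℕ} (hN : Nat.card G = N) {L T E : List (ℕ × ℕ)} (hL : ∀ x ∈ L, x.1.Prime)
    (hT : ∀ x ∈ T, Inv1 x.1 x.2 G) (hE : ∀ x ∈ E, PairN x.1 x.2 G) (hc : okCert3 N L T E = true) : OddC G := by
  classical
  unfold okCert3 at hc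
  rw [Bool.and_eq_true, Bool.and_eq_true] at hc
  obtain ⟨⟨hc1, hc2⟩, hc3⟩ := hc
  rw [List.all_eq_true] at hc2 hc3
  -- the prime divisors
  have hpr : ∀ p : ℕ, p.Prime → p ∣ Nat.card G → p ≠ 2 → ∃ x ∈ L, x.1 = p := by
    intro p hp hd hp2
    have h1 : N ∣ (2 * (L.map Prod.fst).prod) ^ 64 := Nat.dvd_of_mod_eq_zero (Nat.eq_of_beq_eq_true hc1)
    have h3 := hp.dvd_of_dvd_pow ((hN ▸ hd).trans h1)
    rcases hp.dvd_mul.1 h3 with h | h
    · exact absurd ((Nat.prime_dvd_prime_iff_eq hp Nat.prime_two).1 h) hp2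
    · obtain ⟨a, ha, hpa⟩ := (Prime.dvd_prod_iff hp.prime).1 h
      obtain ⟨x, hx, rfl⟩ := List.mem_map.1 ha
      exact ⟨x, hx, ((Nat.prime_dvd_prime_iff_eq hp (hL x hx)).1 hpa).symm⟩
  have hexp : ∀ x ∈ L, ∀ i : ℕ, x.1 ^ i ∣ Nat.card G → i ≤ x.2 := by
    intro x hx i hd
    by_contra hlt
    have h1 := hc2 x hx
    rw [Bool.and_eq_true] at h1
    have h1 := h1.1
    rw [Bool.not_eq_true', ← Bool.not_eq_true] at h1
    apply h1
    rw [Nat.mod_eq_zero_of_dvd ((pow_dvd_pow x.1 (by omega : x.2 + 1 ≤ i)).trans (hN ▸ hd))]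
    rfl
  intro π h2 H K hH hK
  set σ : List (ℕ × ℕ) := L.filter fun x => decide (x.1 ∈ π) with hσ
  have hσm : ∀ x, x ∈ σ ↔ x ∈ L ∧ x.1 ∈ π := by
    intro x
    rw [hσ, List.mem_filter, decide_eq_true_iff]
  have hprσ : ∀ p : ℕ, p.Prime → p ∣ Nat.card G → p ∈ π → ∃ x ∈ σ, x.1 = p := by
    intro p hp hd hpπ
    obtain ⟨x, hx, rfl⟩ := hpr p hp hd (fun h => h2 (h ▸ hpπ))
    exact ⟨x, (hσm x).2 ⟨hx, hpπ⟩, rfl⟩
  have hok := hc3 σ (List.mem_sublists.2 List.filter_sublist)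
  unfold okS3 at hok
  rw [Bool.or_eq_true, Bool.or_eq_true] at hok
  have hall : ∀ x ∈ σ, x.1 ∣ Nat.card G := by
    intro x hx
    have h1 := hc2 x ((hσm x).1 hx).1
    rw [Bool.and_eq_true] at h1
    rw [hN]
    exact Nat.dvd_of_mod_eq_zero (Nat.eq_of_beq_eq_true h1.2)
  rcases hok with (hok | hok) | hok
  · have hemp : σ = [] := List.isEmpty_iff.1 hok
    have hbot : ∀ X : Subgroup G, IsPiHall π X → X = ⊥ := by
      intro X hX
      by_contra hne
      have h1 : Nat.card X ≠ 1 := fun h => hne (card_eq_one.1 h)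
      obtain ⟨p, hp, hd⟩ := Nat.exists_prime_and_dvd h1
      obtain ⟨x, hx, -⟩ := hprσ p hp (hd.trans (card_subgroup_dvd_card X)) (hX.1 p hp hd)
      rw [hemp] at hx
      exact absurd hx List.not_mem_nil
    exact ⟨1, by rw [hbot H hH, hbot K hK]; simp⟩
  · rw [List.any_eq_true] at hok
    obtain ⟨s, hs, hst⟩ := hok
    rw [List.all_eq_true] at hst
    obtain ⟨hsL, hsπ⟩ := (hσm s).1 hs
    refine conj_of_inv1 hna hind h2 (hL s hsL) hsπ (hall s hs) ?_ hH hK
    intro t ht hts htπ htG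
    obtain ⟨x, hx, rfl⟩ := hprσ t ht htG htπ
    have h1 := hst x hx
    rw [Bool.or_eq_true] at h1
    rcases h1 with h1 | h1
    · exact absurd (Nat.eq_of_beq_eq_true h1) hts
    · exact hT _ (inT_spec h1)
  · rw [List.any_eq_true] at hok
    obtain ⟨r, hr, hrp⟩ := hok
    rw [List.all_eq_true] at hrp
    obtain ⟨hrL, hrπ⟩ := (hσm r).1 hr
    refine conj_of_pairN hna hind h2 (hL r hrL) hrπ (hall r hr) ?_ hH hK
    intro p hp hpπ hpr' hpG
    obtain ⟨x, hx, rfl⟩ := hprσ p hp hpG hpπ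
    have h1 := hrp x hx
    rw [Bool.or_eq_true] at h1
    rcases h1 with h1 | h1
    · refine pairN_of_count (hL r hrL) fun i hi hd => ?_
      exact dm_spec h1 hpr' hi (hexp x ((hσm x).1 hx).1 i hd)
    · exact hE _ (inT_spec h1)

end Cfsg.Agent.H555.Hall
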