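import Cfsg.Agent.H555.Hall.Heis
import Cfsg.Agent.Th.MatRealization
import Cfsg.Agent.Th.Main1700

/-!
# The Sylow 5-subgroups of the Thompson group are not abelian (helper555)
-/

set_option autoImplicit false
set_option Elab.async false
set_option maxRecDepth 100000
set_option maxHeartbeats 400000

namespace Cfsg.Agent.H555.Hall.ThN

open Cfsg.Agent.Th.MatEngine Cfsg.Agent.Th.Data248 Cfsg.Agent.Th.Words248 Cfsg.Agent.Th.Gen248
  Cfsg.Agent.Th.Hom248

/-- the product of letters -/
def pr : List Lt → Wd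
  | [] => .one
  | [l] => .g l
  | l :: k :: L => .mul (.g l) (pr (k :: L))

/-- the inverse word -/
def ivL (L : List Lt) : List Lt := (L.map linv).reverse

def v0 : Wd := pr [.d, .S, .e, .S, .u, .d, .c, .d, .e, .s, .e]
def vv : Wd := pr [.a, .u, .b, .u, .s, .U, .d, .u, .S, .b, .a, .b, .s, .U, .d, .u, .S, .U, .b, .U]
def v2 : Wd := .mul vv vv
def vP : Wd := pr [.U, .d, .S, .U, .s, .T, .d, .e, .d]
def v1 : Wd := .mul vP (.mul v2 (.inv vP))

theorem k0 : Nat.beq (evN false (.pow v0 5)) (evN false .one) = true := by decide +kernel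
theorem k0n : Nat.beq (evN false v0) (evN false .one) = false := by decide +kernel
theorem k2 : Nat.beq (evN false (.pow v2 5)) (evN false .one) = true := by decide +kernel
theorem k02 : Nat.beq (evN false (.mul v0 v2)) (evN false (.mul v2 v0)) = true := by decide +kernel
theorem k01 : Nat.beq (evN false (.mul v0 v1)) (evN false (.mul v1 v0)) = true := by decide +kernel
theorem k12 : Nat.beq (evN false (.mul v1 v2)) (evN false (.mul v0 (.mul v2 v1))) = true := by decide +kernel

/-- the element of the presented group -/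
def E (w : Wd) : Cfsg.Spor.Th := PresentedGroup.mk _ (toFree w)

theorem E_eq {v w : Wd} (h : Nat.beq (evN false v) (evN false w) = true) : E v = E w := by
  apply Cfsg.Agent.Th.Main1700.rho_injective
  unfold E
  rw [rho_mk, rho_mk, evG_eq h]

theorem E_ne {v w : Wd} (h : Nat.beq (evN false v) (evN false w) = false) : E v ≠ E w := by
  intro h1
  have h2 := congrArg Cfsg.Agent.Th.Hom248.rho h1
  unfold E at h2
  rw [rho_mk, rho_mk] at h2
  exact evG_ne h h2

theorem E_mul (v w : Wd) : E (.mul v w) = E v * E w := map_mul (PresentedGroup.mk _) _ _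
theorem E_inv (v : Wd) : E (.inv v) = (E v)⁻¹ := map_inv (PresentedGroup.mk _) _
theorem E_pow (v : Wd) (n : ℕ) : E (.pow v n) = E v ^ n := map_pow (PresentedGroup.mk _) _ _
theorem E_one : E .one = 1 := map_one (PresentedGroup.mk _)

theorem nonab {G : Type*} [Group G] [Finite G] (e : G ≃* Cfsg.Spor.Th) (S : Subgroup G)
    (hS : Nat.card S = 5 ^ 3) : ∃ x ∈ S, ∃ y ∈ S, x * y ≠ y * x := by
  have hf : Finite Cfsg.Spor.Th := Cfsg.Agent.Th.Main1700.final.1
  have h0 : E v0 ^ 5 = 1 := by rw [← E_pow, ← E_one]; exact E_eq k0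
  have h2 : E v2 ^ 5 = 1 := by rw [← E_pow, ← E_one]; exact E_eq k2
  have h1 : E v1 ^ 5 = 1 := by
    have h3 : E v1 = E vP * E v2 * (E vP)⁻¹ := by
      change E (.mul vP (.mul v2 (.inv vP))) = _
      rw [E_mul, E_mul, E_inv, mul_assoc]
    rw [h3, conj_pow, h2, mul_one, mul_inv_cancel]
  have h12 : E v1 * E v2 = E v0 * (E v2 * E v1) := by
    rw [← E_mul, ← E_mul, ← E_mul]; exact E_eq k12
  refine Cfsg.Agent.H555.Hall.nonab_of_rel e (p := 5) (a := 3) Nat.prime_five ?_ (g := E v2) (h := E v1) (c := E v0)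
    h2 h1 h0 ?_ ?_ h12 ?_ S hS
  · rw [Nat.card_congr e.toEquiv, Cfsg.Agent.Th.Main1700.final.2.1]
    norm_num
  · rw [← E_mul, ← E_mul]; exact E_eq k02
  · rw [← E_mul, ← E_mul]; exact E_eq k01
  · rw [h12]
    intro h3
    have h4 : E v0 = 1 := mul_eq_right.1 h3
    rw [← E_one] at h4
    exact E_ne k0n h4

end Cfsg.Agent.H555.Hall.ThN
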