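import Cfsg.Agent.H555.Hall.ThSeven
import Cfsg.Agent.H555.Hall.ThNonAb
import Cfsg.Agent.H555.Hall.Cert
import Cfsg.Agent.H171.Odd.DerRed
import Cfsg.Agent.KFacts.Th.Main
import Cfsg.Agent.MonsterX.ThOneClass
import Cfsg.Agent.S0348

/-!
# `OddC` for the Thompson group (helper555)
-/

set_option autoImplicit false
set_option maxRecDepth 100000

namespace Cfsg.Agent.H555.Hall.ThRow

open Subgroup Cfsg
open Cfsg.Agent.H553.OddHall Cfsg.Agent.H171.Odd
open Cfsg.Agent.Th.Base Cfsg.Agent.CpAutTh.Local Cfsg.Agent.CpAutTh.Data Cfsg.Agent.Th.IndexUpper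

theorem hone (u : Spor.Th) (hu : orderOf u = 2) : ∃ g : Spor.Th, g * u * g⁻¹ = gTh 1 :=
  isConj_iff.1 (Cfsg.Agent.MonsterX.ThOneClass.oneClass u (gTh 1) hu Cfsg.Agent.MonsterX.ThOneClass.orderOf_a)

theorem card_Th : Nat.card Spor.Th = 90745943887872000 := Cfsg.Agent.Th.Main1700.final.2.1

theorem inv1_three {t b : ℕ} (ht : t.Prime) (hb : ¬ t ^ (b + 1) ∣ 90745943887872000)
    (hw : ∀ k, 1 ≤ k → k ≤ b → ¬ 3 ^ 2 ∣ t ^ k - 1)
    (h : ¬ t ∣ Nat.card (centralizer ({Cfsg.Agent.Th.Word.ev gTh X333} : Set Spor.Th))) : Inv1 3 t Spor.Th := by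
  have hfin : Finite Spor.Th := Cfsg.Agent.Th.Main1700.final.1
  have hctx := Cfsg.Agent.KFacts.Th.Main.ctx
  obtain ⟨f, F⟩ := Cfsg.Agent.CpAutTh.Local.exists_epi hctx
  obtain ⟨g, hg9, c, hc⟩ := ThC.exists_nine hctx F
  refine inv1_of_sq Nat.prime_three ht (by rwa [card_Th]) hw (g := g) hg9 ?_
  intro hd
  apply h
  refine hd.trans ?_
  have h7 : (centralizer ({g ^ 3} : Set Spor.Th)).map (MulAut.conj c).toMonoidHom ≤
      centralizer ({Cfsg.Agent.Th.Word.ev gTh X333} : Set Spor.Th) := by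
    rintro _ ⟨d, hd, rfl⟩
    rw [mem_centralizer_singleton_iff, ← hc]
    have h8 := mem_centralizer_singleton_iff.1 hd
    change c * d * c⁻¹ * (c * g ^ 3 * c⁻¹) = c * g ^ 3 * c⁻¹ * (c * d * c⁻¹)
    calc c * d * c⁻¹ * (c * g ^ 3 * c⁻¹) = c * (d * g ^ 3) * c⁻¹ := by group
      _ = c * (g ^ 3 * d) * c⁻¹ := by rw [h8]
      _ = _ := by group
  have h8 := card_dvd_of_le h7
  rwa [card_map_of_injective (MulAut.conj c).injective] at h8

/-- **`OddC` for `Th`.** -/
theorem oddC_th {G : Type*} [Group G] [Finite G] [IsSimpleGroup G] (hna : ¬ IsMulCommutative G)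
    (hind : Cfsg.Agent.H553.OddHall.OddInd G) (h : Spor.IsoTh G) : OddC G := by
  obtain ⟨e⟩ := h
  have hfin : Finite Spor.Th := Cfsg.Agent.Th.Main1700.final.1
  have hN : Nat.card G = 90745943887872000 := (Nat.card_congr e.toEquiv).trans card_Th
  have hctx := Cfsg.Agent.KFacts.Th.Main.ctx
  obtain ⟨f, F⟩ := Cfsg.Agent.CpAutTh.Local.exists_epi hctx
  refine oddC_of_cert3 hna hind hN (L := [(3, 10), (5, 3), (7, 2), (13, 1), (19, 1), (31, 1)])
    (T := [(3, 5), (3, 7), (3, 13), (3, 31)]) (E := [(31, 5)]) ?_ ?_ ?_ (by decide +kernel)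
  · intro x hx
    simp only [List.mem_cons, List.not_mem_nil, or_false] at hx
    rcases hx with rfl | rfl | rfl | rfl | rfl | rfl <;> norm_num
  · intro x hx
    refine Inv1.of_equiv e ?_
    simp only [List.mem_cons, List.not_mem_nil, or_false] at hx
    rcases hx with rfl | rfl | rfl | rfl
    · refine inv1_three (b := 3) (by norm_num) (by norm_num) ?_ (ThC.not_dvd_five hctx F ?_)
      · intro k h1 h2
        interval_cases k <;> norm_num
      · exact fun T hT => ThN.nonab (MulEquiv.refl _) T hT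
    · refine inv1_three (b := 2) (by norm_num) (by norm_num) ?_ (ThC.not_dvd_seven hctx F hone
        (fun K _ _ _ => Cfsg.Agent.S0348.result (G := K)))
      intro k h1 h2
      interval_cases k <;> norm_num
    · refine inv1_three (b := 1) (by norm_num) (by norm_num) ?_ (ThC.not_dvd333 hctx F (by norm_num) (by norm_num)
        (by norm_num) (by norm_num))
      intro k h1 h2
      interval_cases k <;> norm_num
    · refine inv1_three (b := 1) (by norm_num) (by norm_num) ?_ (ThC.not_dvd333 hctx F (by norm_num) (by norm_num)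
        (by norm_num) (by norm_num))
      intro k h1 h2
      interval_cases k <;> norm_num
  · intro x hx
    rw [List.mem_singleton.1 hx]
    refine pairN_of_nonab (s := 5) (t := 31) (a := 3) (by norm_num) (by norm_num) (by norm_num) (by norm_num)
      (by rw [hN]; norm_num) (by rw [hN]; norm_num) ?_ (fun S hS => ThN.nonab e S hS)
    intro i h1 h2
    interval_cases i <;> norm_num

end Cfsg.Agent.H555.Hall.ThRow
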