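import Cfsg.Agent.H171.Odd.Tools

/-!
# `Inv1 s t G` from an element of order `s ^ 2` (helper555)
-/

set_option autoImplicit false

namespace Cfsg.Agent.H555.Hall

open Subgroup Cfsg Cfsg.Agent.H171.Odd

universe u

variable {G : Type u} [Group G]

/-- `g` of order `s ^ 2`, `t ∤ |C(g ^ s)|`, `s ^ 2 ∤ t ^ k - 1` -/
theorem inv1_of_sq [Finite G] {s t b : ℕ} (hs : s.Prime) (ht : t.Prime)
    (hb : ¬ t ^ (b + 1) ∣ Nat.card G) (hw : ∀ k, 1 ≤ k → k ≤ b → ¬ s ^ 2 ∣ t ^ k - 1)
    {g : G} (hg : orderOf g = s ^ 2) (h : ¬ t ∣ Nat.card (centralizer ({g ^ s} : Set G))) : Inv1 s t G := by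
  have hfs : Fact s.Prime := ⟨hs⟩
  have hcz : Nat.card (zpowers g) = s ^ 2 := by rw [Nat.card_zpowers, hg]
  refine inv1_of_sub hs ht (w := 1) hb hw (R0 := zpowers g) (IsPGroup.of_card (n := 2) hcz)
    (by rw [pow_one, hcz]; exact lt_self_pow₀ hs.one_lt (by norm_num)) ?_
  intro x hx hx1 hd
  apply h
  refine hd.trans (card_dvd_of_le ?_)
  -- `g ^ s` is a power of `x`
  have hgs : g ^ s ∈ zpowers x := by
    obtain ⟨n, rfl⟩ := mem_zpowers_iff.1 hx
    -- `x = g ^ n`, `s ^ 2 ∤ n`
    have hn : ¬ ((s : ℤ) ^ 2 ∣ n) := by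
      intro hd'
      apply hx1
      obtain ⟨m, rfl⟩ := hd'
      have h1 : g ^ ((s : ℤ) ^ 2) = 1 := by
        have h2 := pow_orderOf_eq_one g
        rw [hg] at h2
        exact_mod_cast h2
      rw [zpow_mul, h1, one_zpow]
    have h0 : Fact s.Prime := ⟨hs⟩
    have hle : zpowers (g ^ s) ≤ zpowers (g ^ n) := by
      by_cases hsn : (s : ℤ) ∣ n
      · obtain ⟨m, rfl⟩ := hsn
        have hm : ¬ (s : ℤ) ∣ m := fun hd' => hn (by rw [pow_two]; exact mul_dvd_mul_left _ hd')
        have h1 : g ^ ((s : ℤ) * m) = (g ^ s) ^ m := by rw [zpow_mul, zpow_natCast]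
        rw [h1]
        have h2 : orderOf (g ^ s) = s := by
          rw [orderOf_pow' g hs.ne_zero, hg, Nat.gcd_eq_right (dvd_pow_self s two_ne_zero), pow_two,
            Nat.mul_div_cancel _ hs.pos]
        have h3 : (zpowers ((g ^ s) ^ m)) = zpowers (g ^ s) := by
          apply eq_of_le_of_card_ge (zpowers_le.2 (zpow_mem (mem_zpowers _) _))
          rw [Nat.card_zpowers, Nat.card_zpowers, h2]
          have h4 : orderOf ((g ^ s) ^ m) ∣ s := by
            have := orderOf_dvd_of_mem_zpowers (zpow_mem (mem_zpowers (g ^ s)) m)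
            rwa [h2] at this
          rcases (Nat.dvd_prime hs).1 h4 with h5 | h5
          · exfalso
            rw [orderOf_eq_one_iff, ← orderOf_dvd_iff_zpow_eq_one, h2] at h5
            exact hm h5
          · exact h5.ge
        exact h3.ge
      · -- `g` is a power of `g ^ n`
        have h1 : IsCoprime (n : ℤ) ((s : ℤ) ^ 2) := by
          apply IsCoprime.pow_right
          exact (Int.isCoprime_iff_gcd_eq_one.2 (by
            have := (Nat.Prime.coprime_iff_not_dvd hs).2 (fun hd' : s ∣ n.natAbs => hsn (Int.natCast_dvd.2 hd'))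
            rw [Int.gcd_comm]
            exact this))
        obtain ⟨a, b', hab⟩ := h1
        rw [zpowers_le]
        have h2 : g ^ ((s : ℤ) ^ 2) = 1 := by
          have h2 := pow_orderOf_eq_one g
          rw [hg] at h2
          exact_mod_cast h2
        have h3 : (g ^ n) ^ a = g := by
          have h4 : g ^ (a * n + b' * (s : ℤ) ^ 2) = g := by rw [hab, zpow_one]
          rw [zpow_add, zpow_mul' g b', h2, one_zpow, mul_one, mul_comm, zpow_mul] at h4
          exact h4
        have h5 : g ∈ zpowers (g ^ n) := mem_zpowers_iff.2 ⟨a, h3⟩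
        exact pow_mem h5 s
    exact hle (mem_zpowers _)
  intro y hy
  rw [mem_centralizer_singleton_iff] at hy ⊢
  obtain ⟨m, hm⟩ := mem_zpowers_iff.1 hgs
  rw [← hm]
  exact (show Commute y x from hy).zpow_right m

end Cfsg.Agent.H555.Hall
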