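import Cfsg.Agent.H555.Hall.HNFiveB
import Cfsg.Agent.H555.Hall.HNThree
import Cfsg.Agent.H555.Hall.Cert
import Cfsg.Agent.H171.Odd.DerRed

/-!
# `OddC` for the Harada–Norton group (helper555)
-/

set_option autoImplicit false
set_option maxRecDepth 100000

namespace Cfsg.Agent.H555.Hall.HNRow

open Subgroup Cfsg
open Cfsg.Agent.H553.OddHall Cfsg.Agent.H171.Odd

/-- **`OddC` for `HN`.** -/
theorem oddC_hn {G : Type*} [Group G] [Finite G] [IsSimpleGroup G] (hna : ¬ IsMulCommutative G)
    (hind : Cfsg.Agent.H553.OddHall.OddInd G) (h : Spor.IsoHN G) : OddC G := by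
  obtain ⟨e⟩ := h
  have hfin : Finite Spor.HN := Cfsg.Agent.KFacts.HN.finite_HN
  have hN : Nat.card G = 273030912000000 := (Nat.card_congr e.toEquiv).trans Cfsg.Agent.KFacts.HN.Classes.card_HN
  refine oddC_of_cert3 hna hind hN (L := [(3, 6), (5, 6), (7, 1), (11, 1), (19, 1)])
    (T := [(5, 3), (5, 7), (5, 11), (3, 7), (3, 11)]) (E := []) ?_ ?_ (fun x hx => absurd hx List.not_mem_nil)
    (by decide +kernel)
  · intro x hx
    simp only [List.mem_cons, List.not_mem_nil, or_false] at hx
    rcases hx with rfl | rfl | rfl | rfl | rfl <;> norm_num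
  · intro x hx
    refine Inv1.of_equiv e ?_
    simp only [List.mem_cons, List.not_mem_nil, or_false] at hx
    rcases hx with rfl | rfl | rfl | rfl | rfl
    · refine HNFive.inv1_five (b := 6) (by norm_num) (by norm_num) (by norm_num) (by norm_num) ?_
      intro k h1 h2
      interval_cases k <;> norm_num
    · refine HNFive.inv1_five (b := 1) (by norm_num) (by norm_num) (by norm_num) (by norm_num) ?_
      intro k h1 h2
      interval_cases k
      norm_num
    · refine HNFive.inv1_five (b := 1) (by norm_num) (by norm_num) (by norm_num) (by norm_num) ?_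
      intro k h1 h2
      interval_cases k
      norm_num
    · exact HNThree.inv1_three (by norm_num) (by norm_num) (by norm_num) (by norm_num) (by norm_num)
    · exact HNThree.inv1_three (by norm_num) (by norm_num) (by norm_num) (by norm_num) (by norm_num)

end Cfsg.Agent.H555.Hall.HNRow
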