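import Cfsg.Agent.H555.Hall.Num

/-!
# `OddC G` for `J₁`, `J₂`, `J₃`, `J₄`, `He`, `O'N`, `HS` and the Mathieu groups: from the order (helper555)
-/

set_option autoImplicit false

namespace Cfsg.Agent.H555.Hall

open Cfsg Cfsg.Agent.H553.OddHall

universe u

variable {G : Type u} [Group G] [Finite G]

theorem oddC_j1 (hN : Nat.card G = 175560) : OddC G :=
  oddC_of_chk (c := 3) hN [(3, 1), (5, 1), (7, 1), (11, 1), (19, 1)] (by simp; norm_num) (by decide +kernel)
    (by decide +kernel)

theorem oddC_j2 (hN : Nat.card G = 604800) : OddC G :=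
  oddC_of_chk (c := 7) hN [(3, 3), (5, 2), (7, 1)] (by simp; norm_num) (by decide +kernel) (by decide +kernel)

theorem oddC_j3 (hN : Nat.card G = 50232960) : OddC G :=
  oddC_of_chk (c := 7) hN [(5, 1), (3, 5), (17, 1), (19, 1)] (by simp; norm_num) (by decide +kernel)
    (by decide +kernel)

theorem oddC_j4 (hN : Nat.card G = 86775571046077562880) : OddC G :=
  oddC_of_chk (c := 21) hN [(3, 3), (5, 1), (7, 1), (11, 3), (23, 1), (29, 1), (31, 1), (37, 1), (43, 1)]
    (by simp; norm_num) (by decide +kernel) (by decide +kernel)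

theorem oddC_he (hN : Nat.card G = 4030387200) : OddC G :=
  oddC_of_chk (c := 10) hN [(3, 3), (5, 2), (7, 3), (17, 1)] (by simp; norm_num) (by decide +kernel)
    (by decide +kernel)

theorem oddC_on (hN : Nat.card G = 460815505920) : OddC G :=
  oddC_of_chk (c := 9) hN [(5, 1), (3, 4), (11, 1), (19, 1), (7, 3), (31, 1)] (by simp; norm_num)
    (by decide +kernel) (by decide +kernel)

theorem oddC_hs (hN : Nat.card G = 44352000) : OddC G :=
  oddC_of_chk (c := 9) hN [(3, 2), (5, 3), (7, 1), (11, 1)] (by simp; norm_num) (by decide +kernel)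
    (by decide +kernel)

theorem oddC_m11 (hN : Nat.card G = 7920) : OddC G :=
  oddC_of_chk (c := 4) hN [(3, 2), (5, 1), (11, 1)] (by simp; norm_num) (by decide +kernel) (by decide +kernel)

theorem oddC_m12 (hN : Nat.card G = 95040) : OddC G :=
  oddC_of_chk (c := 6) hN [(3, 3), (5, 1), (11, 1)] (by simp; norm_num) (by decide +kernel) (by decide +kernel)

theorem oddC_m22 (hN : Nat.card G = 443520) : OddC G :=
  oddC_of_chk (c := 7) hN [(3, 2), (5, 1), (7, 1), (11, 1)] (by simp; norm_num) (by decide +kernel)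
    (by decide +kernel)

theorem oddC_m23 (hN : Nat.card G = 10200960) : OddC G :=
  oddC_of_chk (c := 7) hN [(3, 2), (5, 1), (7, 1), (11, 1), (23, 1)] (by simp; norm_num) (by decide +kernel)
    (by decide +kernel)

theorem oddC_m24 (hN : Nat.card G = 244823040) : OddC G :=
  oddC_of_chk (c := 10) hN [(3, 3), (5, 1), (7, 1), (11, 1), (23, 1)] (by simp; norm_num) (by decide +kernel)
    (by decide +kernel)

end Cfsg.Agent.H555.Hall
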