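import Cfsg.Agent.H555.Hall.Ru
import Cfsg.Agent.RuLat.Main

/-!
# `OddC` for the groups isomorphic to `Ru` (helper555)
-/

set_option autoImplicit false

namespace Cfsg.Agent.H555.Hall

theorem oddC_ru {G : Type*} [Group G] [Finite G] (h : Cfsg.Spor.IsoRu G) : Cfsg.Agent.H553.OddHall.OddC G := by
  obtain ⟨e⟩ := h
  exact RuRow.oddC_of_equiv (e.trans Cfsg.Agent.RuLat.Main.equiv)

end Cfsg.Agent.H555.Hall
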