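import Cfsg.Agent.H555.Hall.ZStarB
import Cfsg.Agent.H171.Odd.Tools

/-!
# An extraspecial Sylow subgroup of order `t ^ 3` (helper555)

`not_dvd_of_extra` : `T2 ≤ C(X)`, `X ∈ T2`, `|T2| = t ^ 3`, `t ^ 4 ∤ |G|`, `T2` not abelian, `C(X)` normalises `T2`, `x` of order
`s` with `s ∤ t ^ 2 (t - 1)`, ...: if `t ∣ |C(x)|` implies `t ^ 2 ∣ |C(x)|`, and `t ^ 3 ∤ |C(x)|`, then `t ∤ |C(x)|`.
-/

set_option autoImplicit false

namespace Cfsg.Agent.H555.Hall

open Subgroup Cfsg
open scoped Pointwise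

universe u

variable {G : Type u} [Group G] [Finite G]

theorem not_dvd_of_extra {t s : ℕ} (ht : t.Prime) (hs : s.Prime) {x X : G} (hx : orderOf x = s)
    (ht4 : ¬ t ^ 4 ∣ Nat.card G) {T2 : Subgroup G} (hT2 : Nat.card T2 = t ^ 3) (hXT : X ∈ T2)
    (hTX : T2 ≤ centralizer ({X} : Set G)) (hn : ∀ c ∈ centralizer ({X} : Set G), ∀ y ∈ T2, c * y * c⁻¹ ∈ T2)
    {a b : G} (ha : a ∈ T2) (hb : b ∈ T2) (hab : a * b ≠ b * a) (hst : ¬ s ∣ t ^ 3 - t ^ 2)
    (h2 : t ∣ Nat.card (centralizer ({x} : Set G)) → t ^ 2 ∣ Nat.card (centralizer ({x} : Set G)))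
    (h3 : ¬ t ^ 3 ∣ Nat.card (centralizer ({x} : Set G))) : ¬ t ∣ Nat.card (centralizer ({x} : Set G)) := by
  intro h1
  have hft : Fact t.Prime := ⟨ht⟩
  have hfs : Fact s.Prime := ⟨hs⟩
  obtain ⟨R0, hR0⟩ := Sylow.exists_subgroup_card_pow_prime t (h2 h1)
  set R1 : Subgroup G := R0.map (centralizer ({x} : Set G)).subtype with hR1
  have hR1x : R1 ≤ centralizer ({x} : Set G) := map_subtype_le _
  have hR1c : Nat.card R1 = t ^ 2 := by rw [hR1, card_map_of_injective (subtype_injective _), hR0]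
  have hR1p : IsPGroup t R1 := IsPGroup.of_card hR1c
  obtain ⟨P1, hP1⟩ := hR1p.exists_le_sylow
  have hT2p : IsPGroup t T2 := IsPGroup.of_card hT2
  obtain ⟨P2, hP2⟩ := hT2p.exists_le_sylow
  -- `P2 = T2`
  have hP2T : T2 = (P2 : Subgroup G) := by
    obtain ⟨n, hn⟩ := P2.isPGroup'.exists_card_eq
    have h4 : n < 4 := by
      by_contra hlt
      exact ht4 (((pow_dvd_pow t (not_lt.1 hlt)).trans hn.symm.dvd).trans (card_subgroup_dvd_card _))
    apply Subgroup.eq_of_le_of_card_ge hP2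
    rw [hn, hT2]
    exact Nat.pow_le_pow_right ht.pos (by omega)
  obtain ⟨g, hg⟩ := MulAction.exists_smul_eq G P1 P2
  -- the conjugates
  set x' : G := g * x * g⁻¹ with hx'
  set R : Subgroup G := R1.map (MulAut.conj g).toMonoidHom with hR
  have hRc : Nat.card R = t ^ 2 := by rw [hR, card_map_of_injective (MulAut.conj g).injective, hR1c]
  have hRT : R ≤ T2 := by
    rw [hP2T, ← hg]
    rintro _ ⟨r, hr, rfl⟩
    have h4 : (MulAut.conj g) r ∈ (MulAut.conj g) • (P1 : Subgroup G) := Subgroup.smul_mem_pointwise_smul _ _ _ (hP1 hr)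
    exact h4
  have hRx : ∀ r ∈ R, r * x' = x' * r := by
    rintro _ ⟨r, hr, rfl⟩
    have h4 := mem_centralizer_singleton_iff.1 (hR1x hr)
    change g * r * g⁻¹ * (g * x * g⁻¹) = g * x * g⁻¹ * (g * r * g⁻¹)
    calc g * r * g⁻¹ * (g * x * g⁻¹) = g * (r * x) * g⁻¹ := by group
      _ = g * (x * r) * g⁻¹ := by rw [h4]
      _ = _ := by group
  have hx's : orderOf x' = s := by rw [← hx]; exact MulEquiv.orderOf_eq (MulAut.conj g) x
  have hRcomm : ∀ r ∈ R, ∀ r' ∈ R, r * r' = r' * r := fun r hr r' hr' =>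
    congrArg Subtype.val ((IsPGroup.isMulCommutative_of_card_eq_prime_sq hRc).is_comm.comm ⟨r, hr⟩ ⟨r', hr'⟩)
  -- maximality
  have key : ∀ K : Subgroup G, R ≤ K → K ≤ T2 → ∀ k ∈ K, k ∉ R → K = T2 := by
    intro K hRK hKT k hk hkR
    have h4 : Nat.card K ∣ t ^ 3 := by rw [← hT2]; exact card_dvd_of_le hKT
    have h5 : t ^ 2 ∣ Nat.card K := by rw [← hRc]; exact card_dvd_of_le hRK
    obtain ⟨j, hj, hjK⟩ := (Nat.dvd_prime_pow ht).1 h4
    rw [hjK] at h5
    have h6 : 2 ≤ j := (Nat.pow_dvd_pow_iff_le_right ht.one_lt).1 h5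
    rcases Nat.lt_or_ge j 3 with h7 | h7
    · exfalso
      have h8 : j = 2 := by omega
      subst h8
      have h9 := Subgroup.eq_of_le_of_card_ge hRK (by rw [hRc, hjK])
      exact hkR (h9 ▸ hk)
    · apply Subgroup.eq_of_le_of_card_ge hKT
      rw [hT2, hjK]
      exact Nat.pow_le_pow_right ht.pos h7
  -- `X ∈ R`
  have hXR : X ∈ R := by
    by_contra hXR
    have h4 := key (R ⊔ zpowers X) le_sup_left (sup_le hRT (zpowers_le.2 hXT)) X (mem_sup_right (mem_zpowers X)) hXR
    have h5 : ∀ r ∈ R, T2 ≤ centralizer ({r} : Set G) := by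
      intro r hr
      rw [← h4, sup_le_iff, zpowers_le]
      exact ⟨fun r' hr' => mem_centralizer_singleton_iff.2 (hRcomm r' hr' r hr), mem_centralizer_singleton_iff.2
        (mem_centralizer_singleton_iff.1 (hTX (hRT hr))).symm⟩
    have h6 : T2 ≤ centralizer ({b} : Set G) := by
      rw [← h4, sup_le_iff, zpowers_le]
      exact ⟨fun r' hr' => mem_centralizer_singleton_iff.2 (mem_centralizer_singleton_iff.1 (h5 r' hr' hb)).symm,
        mem_centralizer_singleton_iff.2 (mem_centralizer_singleton_iff.1 (hTX hb)).symm⟩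
    exact hab (mem_centralizer_singleton_iff.1 (h6 ha))
  have hx'X : x' ∈ centralizer ({X} : Set G) := mem_centralizer_singleton_iff.2 (hRx X hXR).symm
  have hnz : zpowers x' ≤ normalizer (T2 : Set G) := by
    rw [zpowers_le, mem_normalizer_iff]
    intro y
    refine ⟨fun hy => hn x' hx'X y hy, fun hy => ?_⟩
    have h4 := hn x'⁻¹ (inv_mem hx'X) _ hy
    rw [inv_inv] at h4
    rwa [show x'⁻¹ * (x' * y * x'⁻¹) * x' = y by group] at h4
  have hnzR : zpowers x' ≤ normalizer (R : Set G) := by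
    rw [zpowers_le, mem_normalizer_iff]
    intro y
    constructor
    · intro hy
      rwa [← hRx y hy, mul_inv_cancel_right]
    · intro hy
      have h4 := hRx _ hy
      have h5 : x' * y * x'⁻¹ = y := by
        have h6 : x' * y * x'⁻¹ * x' = x' * y := by group
        rw [h6] at h4
        have h7 : x' * (x' * y * x'⁻¹) = x' * y := h4.symm
        exact mul_left_cancel h7
      rwa [h5] at hy
  obtain ⟨y, hyT, hyR, hy⟩ := H171.Odd.exists_small_orbit (s := s) (w := 0) (IsPGroup.of_card (n := 1) (by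
    rw [Nat.card_zpowers, hx's, pow_one])) hnz hnzR hRT (by rw [hT2, hRc, zero_add, pow_one]; exact hst)
  rw [pow_zero, mul_one, Nat.card_zpowers, hx's] at hy
  have hyx : y * x' = x' * y := by
    have h4 : zpowers x' ⊓ centralizer ({y} : Set G) = zpowers x' := by
      apply Subgroup.eq_of_le_of_card_ge inf_le_left
      rw [Nat.card_zpowers, hx's]
      exact Nat.le_of_dvd Nat.card_pos hy
    have h5 : x' ∈ zpowers x' ⊓ centralizer ({y} : Set G) := by rw [h4]; exact mem_zpowers x'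
    exact (mem_centralizer_singleton_iff.1 h5.2).symm
  have h4 := key (T2 ⊓ centralizer ({x'} : Set G)) (le_inf hRT fun r hr => mem_centralizer_singleton_iff.2 (hRx r hr))
    inf_le_left y ⟨hyT, mem_centralizer_singleton_iff.2 hyx⟩ hyR
  have h5 : t ^ 3 ∣ Nat.card (centralizer ({x'} : Set G)) := by
    rw [← hT2, ← h4]
    exact card_dvd_of_le inf_le_right
  apply h3
  have h6 : Nat.card (centralizer ({x} : Set G)) = Nat.card (centralizer ({x'} : Set G)) := by
    have h7 : (centralizer ({x} : Set G)).map (MulAut.conj g).toMonoidHom = centralizer ({x'} : Set G) := by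
      ext c
      rw [mem_centralizer_singleton_iff]
      constructor
      · rintro ⟨d, hd, rfl⟩
        have h8 := mem_centralizer_singleton_iff.1 hd
        change g * d * g⁻¹ * (g * x * g⁻¹) = g * x * g⁻¹ * (g * d * g⁻¹)
        calc g * d * g⁻¹ * (g * x * g⁻¹) = g * (d * x) * g⁻¹ := by group
          _ = g * (x * d) * g⁻¹ := by rw [h8]
          _ = _ := by group
      · intro hc
        refine ⟨g⁻¹ * c * g, mem_centralizer_singleton_iff.2 ?_, by
          change g * (g⁻¹ * c * g) * g⁻¹ = c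
          group⟩
        calc g⁻¹ * c * g * x = g⁻¹ * (c * x') * g := by rw [hx']; group
          _ = g⁻¹ * (x' * c) * g := by rw [hc]
          _ = _ := by rw [hx']; group
    rw [← h7, card_map_of_injective (MulAut.conj g).injective]
  rwa [h6]

end Cfsg.Agent.H555.Hall
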