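import Cfsg.Agent.H555.Hall.ZStarB
import Cfsg.Agent.CpAutTh.Seven

/-!
# Groups with involution centralizers of order 8 (helper555)

`simple_of_cent`, `card_of_cent` : a group with one class of involutions, the centralizer of an involution a non-abelian
group of order 8 generated by involutions is simple; it has order 168 if 7 divides the order;
`not_comm_168` : elements of orders 3 and 7 of a simple group of order 168 do not commute.
-/

set_option autoImplicit false

namespace Cfsg.Agent.H555.Hall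

open Subgroup Cfsg

universe u

variable {K : Type u} [Group K] [Finite K]

theorem inv_of_fpf {z : K} (hzz : z * z = 1) {M : Subgroup K} (hM : ∀ m ∈ M, z * m * z⁻¹ ∈ M)
    (hf : ∀ m ∈ M, m * z = z * m → m = 1) : ∀ a ∈ M, z * a * z⁻¹ = a⁻¹ := by
  let φ : M →* M :=
    { toFun := fun m => ⟨z * m * z⁻¹, hM m m.2⟩
      map_one' := Subtype.ext (by simp)
      map_mul' := fun a b => Subtype.ext (by
        change z * (a * b : K) * z⁻¹ = z * a * z⁻¹ * (z * b * z⁻¹)
        group) }
  have hfp : MonoidHom.FixedPointFree φ := by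
    intro m hm
    apply Subtype.ext
    have h1 : z * (m : K) * z⁻¹ = m := congrArg Subtype.val hm
    exact hf m m.2 (mul_inv_eq_iff_eq_mul.1 h1).symm
  have hinv : Function.Involutive φ := by
    intro m
    apply Subtype.ext
    change z * (z * (m : K) * z⁻¹) * z⁻¹ = m
    have h2 : z⁻¹ = z := inv_eq_of_mul_eq_one_right hzz
    rw [h2]
    calc z * (z * (m : K) * z) * z = (z * z) * m * (z * z) := by group
      _ = m := by rw [hzz]; group
  intro a ha
  have h1 := congrFun (hfp.coe_eq_inv_of_involutive hinv) ⟨a, ha⟩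
  exact congrArg Subtype.val h1

/-- a subgroup of order prime to 2 and a 2-group -/
theorem eq_one_of_odd {N C : Subgroup K} (hN : Odd (Nat.card N)) (hC : IsPGroup 2 C) {n : K} (hn : n ∈ N) (hnC : n ∈ C) :
    n = 1 := by
  obtain ⟨k, hk⟩ := hC ⟨n, hnC⟩
  have h1 : n ^ 2 ^ k = 1 := congrArg Subtype.val hk
  have h2 : orderOf n ∣ 2 ^ k := orderOf_dvd_of_pow_eq_one h1
  have h3 : orderOf n ∣ Nat.card N := by
    rw [← Subgroup.orderOf_mk n hn]
    exact orderOf_dvd_natCard _
  rw [← orderOf_eq_one_iff]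
  exact Nat.eq_one_of_dvd_coprimes (Nat.Coprime.pow_left k (Nat.coprime_two_left.2 hN)) h2 h3

theorem cent_of_conj {s : K} (hconj : ∀ u : K, orderOf u = 2 → ∃ g : K, g * s * g⁻¹ = u)
    (hC : IsPGroup 2 (centralizer ({s} : Set K))) {u : K} (hu : orderOf u = 2) :
    IsPGroup 2 (centralizer ({u} : Set K)) := by
  obtain ⟨g, rfl⟩ := hconj u hu
  rintro ⟨c, hc⟩
  have h1 : g⁻¹ * c * g ∈ centralizer ({s} : Set K) := by
    rw [mem_centralizer_singleton_iff] at hc ⊢
    calc g⁻¹ * c * g * s = g⁻¹ * (c * (g * s * g⁻¹)) * g := by group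
      _ = g⁻¹ * (g * s * g⁻¹ * c) * g := by rw [hc]
      _ = _ := by group
  obtain ⟨k, hk⟩ := hC ⟨_, h1⟩
  refine ⟨k, Subtype.ext ?_⟩
  have h2 : (g⁻¹ * c * g) ^ 2 ^ k = 1 := congrArg Subtype.val hk
  have h3 : g⁻¹ * c * g = g⁻¹ * c * g⁻¹⁻¹ := by rw [inv_inv]
  rw [h3, conj_pow, conj_eq_one_iff] at h2
  exact h2

theorem simple_of_cent {s : K} (hs : orderOf s = 2) (hconj : ∀ u : K, orderOf u = 2 → ∃ g : K, g * s * g⁻¹ = u)
    (hC : IsPGroup 2 (centralizer ({s} : Set K))) {A : Set K} (hA : ∀ a ∈ A, a * a = 1)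
    (hcl : centralizer ({s} : Set K) ≤ closure A)
    (hsq : ∀ y ∈ centralizer ({s} : Set K), y * y = 1 ∨ y * y = s) {w : K} (hw : w ∈ centralizer ({s} : Set K))
    (hww : w * w = s) {c : K} (hc : c ∈ centralizer ({s} : Set K)) (hc2 : orderOf c = 2) (hcs : c ≠ s) :
    IsSimpleGroup K := by
  have h2F : Fact (Nat.Prime 2) := ⟨Nat.prime_two⟩
  have hs1 : s ≠ 1 := by
    rintro rfl
    rw [orderOf_one] at hs
    omega
  have hnt : Nontrivial K := ⟨⟨s, 1, hs1⟩⟩
  refine ⟨fun N hN => ?_⟩
  by_cases h2 : 2 ∣ Nat.card N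
  · right
    obtain ⟨r, hr⟩ := exists_prime_orderOf_dvd_card' 2 h2
    have hinv : ∀ u : K, orderOf u = 2 → u ∈ N := by
      intro u hu
      obtain ⟨g, hg⟩ := hconj u hu
      obtain ⟨g', hg'⟩ := hconj (r : K) (by rw [Subgroup.orderOf_coe, hr])
      have h1 : g * g'⁻¹ * r * (g * g'⁻¹)⁻¹ = u := CpAutTh.Seven.conj_trans hg hg'
      rw [← h1]
      exact hN.conj_mem _ r.2 _
    have hCN : centralizer ({s} : Set K) ≤ N := by
      refine hcl.trans ((closure_le _).2 fun a ha => ?_)
      by_cases ha1 : a = 1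
      · rw [ha1]; exact one_mem N
      · exact hinv a (orderOf_eq_prime (by rw [pow_two]; exact hA a ha) ha1)
    obtain ⟨P, hsP, hPc⟩ := CpAutTh.SevenAux.exists_sylow_central hs hconj
    have hPC : (P : Subgroup K) = centralizer ({s} : Set K) :=
      (P.is_maximal' hC (fun y hy => mem_centralizer_singleton_iff.2 (hPc y hy))).symm
    have hfr := P.normalizer_sup_eq_top' (N := N) (by rw [hPC]; exact hCN)
    rw [eq_top_iff, ← hfr]
    refine sup_le ?_ le_rfl
    intro m hm
    apply hCN
    have h1 : m * w * m⁻¹ ∈ centralizer ({s} : Set K) := by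
      rw [← hPC] at hw ⊢
      exact (mem_normalizer_iff.1 hm w).1 hw
    have h3 : (m * w * m⁻¹) * (m * w * m⁻¹) = m * s * m⁻¹ := by rw [← hww]; group
    rcases hsq _ h1 with h4 | h4
    · exfalso
      rw [h3, conj_eq_one_iff] at h4
      exact hs1 h4
    · rw [h3] at h4
      exact mem_centralizer_singleton_iff.2 (mul_inv_eq_iff_eq_mul.1 h4)
  · left
    have hodd : Odd (Nat.card N) := Nat.not_even_iff_odd.1 fun h => h2 (even_iff_two_dvd.1 h)
    have hi : ∀ z : K, orderOf z = 2 → ∀ n ∈ N, z * n * z⁻¹ = n⁻¹ := by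
      intro z hz
      refine inv_of_fpf (by rw [← pow_two, ← hz, pow_orderOf_eq_one]) (fun m hm => hN.conj_mem m hm z) ?_
      intro m hm hmz
      exact eq_one_of_odd hodd (cent_of_conj hconj hC hz) hm (mem_centralizer_singleton_iff.2 hmz)
    have hcs' := mem_centralizer_singleton_iff.1 hc
    have hss : s * s = 1 := by rw [← pow_two, ← hs, pow_orderOf_eq_one]
    have hcc : c * c = 1 := by rw [← pow_two, ← hc2, pow_orderOf_eq_one]
    have hsc : orderOf (c * s) = 2 := by
      refine orderOf_eq_prime ?_ ?_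
      · rw [pow_two]
        calc c * s * (c * s) = c * (s * c) * s := by group
          _ = (c * c) * (s * s) := by rw [← hcs']; group
          _ = 1 := by rw [hcc, hss, one_mul]
      · intro h3
        apply hcs
        calc c = c * s * s := by rw [mul_assoc, hss, mul_one]
          _ = s := by rw [h3, one_mul]
    rw [eq_bot_iff]
    intro n hn
    have h3 := hi _ hsc n hn
    have h4 : c * s * n * (c * s)⁻¹ = n := by
      calc c * s * n * (c * s)⁻¹ = c * (s * n * s⁻¹) * c⁻¹ := by group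
        _ = c * n⁻¹ * c⁻¹ := by rw [hi s hs n hn]
        _ = (c * n * c⁻¹)⁻¹ := by group
        _ = n := by rw [hi c hc2 n hn, inv_inv]
    rw [mem_bot]
    exact eq_one_of_odd hodd (cent_of_conj hconj hC hsc) hn
      (mem_centralizer_singleton_iff.2 (mul_inv_eq_iff_eq_mul.1 h4).symm)

/-- **the order** -/
theorem card_of_cent (h348 : ∀ (K : Type u) [Group K] [Finite K] [IsSimpleGroup K], (∃ a b : K, a * b ≠ b * a) →
    (∀ t : K, orderOf t = 2 → IsPGroup 2 (Subgroup.centralizer ({t} : Set K))) →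
    (∃ (F : Type) (_ : Field F) (_ : Fintype F),
        (Fintype.card F = 9 ∨ (∃ n : ℕ, Fintype.card F = 2 ^ n) ∨
          ((Fintype.card F).Prime ∧ ∃ k : ℕ, Fintype.card F = 2 ^ k + 1 ∨ Fintype.card F + 1 = 2 ^ k)) ∧
        Nonempty (K ≃* Matrix.ProjectiveSpecialLinearGroup (Fin 2) F)) ∨
    (∃ (F : Type) (_ : Field F) (_ : Fintype F), Fintype.card F = 4 ∧
        Nonempty (K ≃* Matrix.ProjectiveSpecialLinearGroup (Fin 3) F)) ∨
    Cfsg.IsSuzuki K) {s : K} (hs : orderOf s = 2) (hconj : ∀ u : K, orderOf u = 2 → ∃ g : K, g * s * g⁻¹ = u)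
    (hC : IsPGroup 2 (centralizer ({s} : Set K))) (h8 : Nat.card (centralizer ({s} : Set K)) ≤ 8)
    (hsimp : IsSimpleGroup K) (hna : ∃ a b : K, a * b ≠ b * a) {w : K} (hw : w * w = s) (h7 : 7 ∣ Nat.card K) :
    Nat.card K = 168 := by
  have h2F : Fact (Nat.Prime 2) := ⟨Nat.prime_two⟩
  obtain ⟨P, hsP, hPc⟩ := CpAutTh.SevenAux.exists_sylow_central hs hconj
  have hPC : (P : Subgroup K) = centralizer ({s} : Set K) :=
    (P.is_maximal' hC (fun y hy => mem_centralizer_singleton_iff.2 (hPc y hy))).symm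
  obtain ⟨F, hF, hFF, hF7, ⟨e⟩⟩ := CpAutTh.SevenAux.psl_seven h348 hsimp hna
    (fun t ht => cent_of_conj hconj hC ht) (by
      intro h16
      have h1 : 2 ^ 4 ∣ Nat.card (P : Subgroup K) := P.pow_dvd_card_of_pow_dvd_card (by norm_num; exact h16)
      have h2 := Nat.le_of_dvd Nat.card_pos h1
      rw [hPC] at h2
      omega) h7 (fun _ => ⟨w, by
      have hs1 : s ≠ 1 := by
        rintro rfl
        rw [orderOf_one] at hs
        omega
      refine orderOf_eq_prime_pow (p := 2) (n := 1) (x := w) ?_ ?_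
      · rw [pow_one, pow_two, hw]
        exact hs1
      · rw [show 2 ^ (1 + 1) = 2 * 2 by norm_num, pow_mul, pow_two, pow_two, hw, ← pow_two, ← hs, pow_orderOf_eq_one]⟩)
  have h1 := SmallSimple.PSLTwoPart.card_psl_two_odd (F := F) (by rw [hF7]; decide)
  rw [← Nat.card_congr e.toEquiv, hF7] at h1
  norm_num at h1
  omega

/-- **elements of orders 3 and 7** -/
theorem not_comm_168 (hsimp : IsSimpleGroup K) (hK : Nat.card K = 168) {a b : K} (ha : orderOf a = 3)
    (hb : orderOf b = 7) : a * b ≠ b * a := by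
  intro hab
  have h7F : Fact (Nat.Prime 7) := ⟨by norm_num⟩
  have hzp : IsPGroup 7 (zpowers b) := IsPGroup.of_card (n := 1) (by rw [Nat.card_zpowers, hb, pow_one])
  obtain ⟨P, hP⟩ := hzp.exists_le_sylow
  have hPc : Nat.card (P : Subgroup K) = 7 := by
    obtain ⟨n, hn⟩ := P.isPGroup'.exists_card_eq
    have h1 : 7 ∣ Nat.card (P : Subgroup K) := by
      have h2 := card_dvd_of_le hP
      rwa [Nat.card_zpowers, hb] at h2
    have h3 := card_subgroup_dvd_card (P : Subgroup K)
    rw [hK] at h3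
    rw [hn] at h1 h3 ⊢
    have h4 : n < 2 := by
      by_contra hlt
      have h5 := (pow_dvd_pow 7 (not_lt.1 hlt)).trans h3
      norm_num at h5
    have h6 : n ≠ 0 := by
      rintro rfl
      norm_num at h1
    have h7 : n = 1 := by omega
    rw [h7, pow_one]
  have hPb : (P : Subgroup K) = zpowers b := (Subgroup.eq_of_le_of_card_ge hP (by
    rw [hPc, Nat.card_zpowers, hb])).symm
  -- the centralizer
  have hPcent : (P : Subgroup K) ≤ centralizer ({b} : Set K) := by
    rw [hPb, zpowers_le]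
    exact mem_centralizer_singleton_iff.2 rfl
  have hc21 : 21 ∣ Nat.card (centralizer ({b} : Set K)) := by
    have h1 : 7 ∣ Nat.card (centralizer ({b} : Set K)) := by rw [← hPc]; exact card_dvd_of_le hPcent
    have h2 : 3 ∣ Nat.card (centralizer ({b} : Set K)) := by
      rw [← ha, ← Subgroup.orderOf_mk a (mem_centralizer_singleton_iff.2 hab)]
      exact orderOf_dvd_natCard _
    exact Nat.Coprime.mul_dvd_of_dvd_of_dvd (by norm_num) h2 h1
  have hcn : centralizer ({b} : Set K) ≤ normalizer ((P : Subgroup K) : Set K) := by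
    intro c hc
    rw [mem_normalizer_iff]
    intro y
    rw [hPb]
    have h1 : ∀ y ∈ zpowers b, c * y * c⁻¹ = y := by
      rintro y ⟨n, rfl⟩
      have h2 : Commute c (b ^ n) := (show Commute c b from mem_centralizer_singleton_iff.1 hc).zpow_right n
      change c * b ^ n * c⁻¹ = b ^ n
      rw [h2.eq, mul_inv_cancel_right]
    constructor
    · intro hy
      rwa [h1 y hy]
    · intro hy
      have h2 := h1 _ hy
      have h3 : c * y * c⁻¹ = y := mul_left_cancel (a := c) (mul_right_cancel (b := c⁻¹) h2)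
      rwa [h3] at hy
  -- the number of Sylow subgroups
  have hn1 : Nat.card (Sylow 7 K) * Nat.card ↥(normalizer ((P : Subgroup K) : Set K)) = 168 := by
    rw [Sylow.card_eq_index_normalizer P, ← hK]
    exact index_mul_card _
  obtain ⟨m, hm⟩ : 21 ∣ Nat.card ↥(normalizer ((P : Subgroup K) : Set K)) := hc21.trans (card_dvd_of_le hcn)
  have hn2 : Nat.card (Sylow 7 K) ≡ 1 [MOD 7] := card_sylow_modEq_one 7 K
  have hn3 : Nat.card (Sylow 7 K) * m = 8 := by
    rw [hm] at hn1
    have h1 : 21 * (Nat.card (Sylow 7 K) * m) = 21 * 8 := by rw [← mul_assoc, mul_comm 21, mul_assoc, hn1]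
    exact Nat.eq_of_mul_eq_mul_left (by norm_num) h1
  have hn4 : Nat.card (Sylow 7 K) ∣ 2 ^ 3 := Dvd.intro _ hn3
  have hnP : (P : Subgroup K) ≠ ⊥ ∧ (P : Subgroup K) ≠ ⊤ := by
    constructor
    · intro h1
      rw [h1, card_bot] at hPc
      omega
    · intro h1
      rw [h1, card_top, hK] at hPc
      omega
  obtain ⟨j, hj, hj8⟩ := (Nat.dvd_prime_pow Nat.prime_two).1 hn4
  have hm1 : m = 1 := by
    rw [hj8] at hn2 hn3
    interval_cases j
    · -- normal
      exfalso
      rw [hj8, pow_zero, one_mul] at hn1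
      have h1 : normalizer ((P : Subgroup K) : Set K) = ⊤ := by
        apply Subgroup.eq_top_of_card_eq
        rw [hn1, hK]
      have h2 : (P : Subgroup K).Normal := normalizer_eq_top_iff.1 h1
      rcases hsimp.eq_bot_or_eq_top_of_normal _ h2 with h3 | h3
      · exact hnP.1 h3
      · exact hnP.2 h3
    · exact absurd hn2 (by decide)
    · exact absurd hn2 (by decide)
    · omega
  have hNC : normalizer ((P : Subgroup K) : Set K) = centralizer ({b} : Set K) := by
    refine (Subgroup.eq_of_le_of_card_ge hcn ?_).symm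
    rw [hm, hm1]
    exact Nat.le_of_dvd Nat.card_pos hc21
  have hNC' : normalizer ((P : Subgroup K) : Set K) ≤ centralizer ((P : Subgroup K) : Set K) := by
    intro c hc
    rw [hNC] at hc
    rw [mem_centralizer_iff]
    intro y hy
    rw [SetLike.mem_coe, hPb] at hy
    obtain ⟨n, rfl⟩ := hy
    exact ((show Commute c b from mem_centralizer_singleton_iff.1 hc).zpow_right n).eq.symm
  have hcomp := MonoidHom.ker_transferSylow_isComplement' P hNC'
  have hcard := hcomp.card_mul
  rcases hsimp.eq_bot_or_eq_top_of_normal (MonoidHom.transferSylow P hNC').ker inferInstance with h1 | h1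
  · rw [h1, card_bot, one_mul, hPc, hK] at hcard
    omega
  · rw [h1, card_top, hPc, hK] at hcard
    omega

end Cfsg.Agent.H555.Hall
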