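import Cfsg.Agent.H555.Hall.ZStarB
import Cfsg.Agent.H555.Hall.SevenGen

/-!
# Four-groups and `Z*` (helper555)

`not_dvd_of_four` : `z` isolated in `X`, `u` a second involution commuting with `z`: an odd prime `t` dividing none of
`|C(z)|`, `|C(u)|`, `|C(z u)|` does not divide `|X|`; `not_dvd_cent_of_four` : the same for `X = C(x)`.
-/

set_option autoImplicit false

namespace Cfsg.Agent.H555.Hall

open Subgroup Cfsg

universe u

theorem not_dvd_of_four {X : Type u} [Group X] [Finite X] {z v : X} (hz : orderOf z = 2) (hv : orderOf v = 2)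
    (hc : v * z = z * v) (hiso : ∀ g : X, g * z * g⁻¹ * z = z * (g * z * g⁻¹) → g * z * g⁻¹ = z)
    {t : ℕ} (ht : t.Prime) (h1 : ¬ t ∣ Nat.card (centralizer ({z} : Set X)))
    (h2 : ¬ t ∣ Nat.card (centralizer ({v} : Set X))) (h3 : ¬ t ∣ Nat.card (centralizer ({z * v} : Set X))) :
    ¬ t ∣ Nat.card X := by
  intro hd
  have hft : Fact t.Prime := ⟨ht⟩
  have h2F : Fact (Nat.Prime 2) := ⟨Nat.prime_two⟩
  have hzz : z * z = 1 := by rw [← pow_two, ← hz, pow_orderOf_eq_one]
  have hvv : v * v = 1 := by rw [← pow_two, ← hv, pow_orderOf_eq_one]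
  obtain ⟨N, hN, hodd, hsup⟩ := exists_odd_iso hz hiso
  -- the four-group
  have hzp : IsPGroup 2 (zpowers z) := IsPGroup.of_card (n := 1) (by rw [Nat.card_zpowers, hz, pow_one])
  have hvp : IsPGroup 2 (zpowers v) := IsPGroup.of_card (n := 1) (by rw [Nat.card_zpowers, hv, pow_one])
  have hn : zpowers z ≤ normalizer (zpowers v : Set X) := by
    rw [zpowers_le, mem_normalizer_iff]
    have h4 : ∀ y ∈ zpowers v, z * y * z⁻¹ = y := by
      rintro y ⟨n, rfl⟩
      have h5 : Commute z (v ^ n) := (show Commute z v from hc.symm).zpow_right n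
      change z * v ^ n * z⁻¹ = v ^ n
      rw [h5.eq, mul_inv_cancel_right]
    intro y
    constructor
    · intro hy
      rwa [h4 y hy]
    · intro hy
      have h5 := h4 _ hy
      have h6 : z * y * z⁻¹ = y := mul_left_cancel (a := z) (mul_right_cancel (b := z⁻¹) h5)
      rwa [h6] at hy
  have hQ : IsPGroup 2 ↥(zpowers z ⊔ zpowers v) := IsPGroup.to_sup_of_normal_right' hzp hvp hn
  obtain ⟨R, hRp, hRi, hRN, hnR, hR⟩ := exists_inv_sylow hN hodd hsup hQ ht h1
  have hconj : ∀ g ∈ zpowers z ⊔ zpowers v, ∀ r ∈ R, g * r * g⁻¹ ∈ R := fun g hg r hr =>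
    (mem_normalizer_iff.1 (hnR hg) r).1 hr
  have hzQ : z ∈ zpowers z ⊔ zpowers v := mem_sup_left (mem_zpowers z)
  have hvQ : v ∈ zpowers z ⊔ zpowers v := mem_sup_right (mem_zpowers v)
  -- an element commuting with `w`
  have key : ∀ w : X, ¬ t ∣ Nat.card (centralizer ({w} : Set X)) → ∀ r ∈ R, r * w = w * r → r = 1 := by
    intro w hw r hr hrw
    by_contra hne
    apply hw
    obtain ⟨k, hk⟩ := hRp ⟨r, hr⟩
    have hk' : r ^ t ^ k = 1 := congrArg Subtype.val hk
    obtain ⟨j, hj, hjo⟩ := (Nat.dvd_prime_pow ht).1 (orderOf_dvd_of_pow_eq_one hk')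
    have hj0 : j ≠ 0 := by
      rintro rfl
      rw [pow_zero, orderOf_eq_one_iff] at hjo
      exact hne hjo
    have h4 : orderOf r ∣ Nat.card (centralizer ({w} : Set X)) := by
      rw [← Subgroup.orderOf_mk r (mem_centralizer_singleton_iff.2 hrw)]
      exact orderOf_dvd_natCard _
    rw [hjo] at h4
    exact (dvd_pow_self t hj0).trans h4
  have hiz := inv_of_fpf hzz (M := R) (fun r hr => hconj z hzQ r hr) hR
  have hiv := inv_of_fpf hvv (M := R) (fun r hr => hconj v hvQ r hr) (key v h2)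
  have hzv : z * v * (z * v) = 1 := by
    calc z * v * (z * v) = z * (v * z) * v := by group
      _ = (z * z) * (v * v) := by rw [hc]; group
      _ = 1 := by rw [hzz, hvv, one_mul]
  have hizv := inv_of_fpf hzv (M := R) (fun r hr => hconj _ (mul_mem hzQ hvQ) r hr) (key _ h3)
  have hR1 : ∀ r ∈ R, r = 1 := by
    intro r hr
    have h4 := hizv r hr
    have h5 : z * v * r * (z * v)⁻¹ = r := by
      calc z * v * r * (z * v)⁻¹ = z * (v * r * v⁻¹) * z⁻¹ := by group
        _ = z * r⁻¹ * z⁻¹ := by rw [hiv r hr]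
        _ = r := by rw [hiz r⁻¹ (inv_mem hr), inv_inv]
    rw [h5] at h4
    -- `r = r⁻¹`
    have h6 : r * r = 1 := by
      nth_rewrite 2 [h4]
      exact mul_inv_cancel r
    have h7 : orderOf r ∣ 2 := orderOf_dvd_of_pow_eq_one (by rw [pow_two, h6])
    have h8 : orderOf r ∣ Nat.card N := by
      rw [← Subgroup.orderOf_mk r (hRN hr)]
      exact orderOf_dvd_natCard _
    rw [← orderOf_eq_one_iff]
    exact Nat.eq_one_of_dvd_coprimes (Nat.coprime_two_left.2 hodd) h7 h8
  have hRb : R = ⊥ := (eq_bot_iff_forall R).2 hR1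
  apply hRi
  rw [hRb, index_bot]
  exact hd

/-- the centralizer of `v` in `C(x)` -/
theorem card_pair {G : Type u} [Group G] {x v : G} (hv : v ∈ centralizer ({x} : Set G)) :
    Nat.card ↥(centralizer ({(⟨v, hv⟩ : ↥(centralizer ({x} : Set G)))} : Set ↥(centralizer ({x} : Set G)))) =
      Nat.card ↥(centralizer ({x} : Set G) ⊓ centralizer ({v} : Set G) : Subgroup G) := by
  refine Nat.card_congr
    { toFun := fun u => ⟨((u : ↥(centralizer ({x} : Set G))) : G),
        (u : ↥(centralizer ({x} : Set G))).2, mem_centralizer_singleton_iff.2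
          (congrArg Subtype.val (mem_centralizer_singleton_iff.1 u.2))⟩
      invFun := fun w => ⟨⟨(w : G), w.2.1⟩, mem_centralizer_singleton_iff.2
        (Subtype.ext (mem_centralizer_singleton_iff.1 w.2.2))⟩
      left_inv := fun _ => rfl
      right_inv := fun _ => rfl }

theorem not_dvd_cent_of_four {G : Type u} [Group G] [Finite G] {x z v : G} (hz : orderOf z = 2) (hv : orderOf v = 2)
    (hc : v * z = z * v) (hzx : z * x = x * z) (hvx : v * x = x * v)
    (hiso : ∀ g : G, g * x = x * g → g * z * g⁻¹ * z = z * (g * z * g⁻¹) → g * z * g⁻¹ = z)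
    {t : ℕ} (ht : t.Prime)
    (h1 : ¬ t ∣ Nat.card ↥(centralizer ({x} : Set G) ⊓ centralizer ({z} : Set G) : Subgroup G))
    (h2 : ¬ t ∣ Nat.card ↥(centralizer ({x} : Set G) ⊓ centralizer ({v} : Set G) : Subgroup G))
    (h3 : ¬ t ∣ Nat.card ↥(centralizer ({x} : Set G) ⊓ centralizer ({z * v} : Set G) : Subgroup G)) :
    ¬ t ∣ Nat.card ↥(centralizer ({x} : Set G)) := by
  have hzm : z ∈ centralizer ({x} : Set G) := mem_centralizer_singleton_iff.2 hzx
  have hvm : v ∈ centralizer ({x} : Set G) := mem_centralizer_singleton_iff.2 hvx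
  refine not_dvd_of_four (z := (⟨z, hzm⟩ : ↥(centralizer ({x} : Set G)))) (v := ⟨v, hvm⟩)
    (by rw [Subgroup.orderOf_mk, hz]) (by rw [Subgroup.orderOf_mk, hv])
    (Subtype.ext hc) ?_ ht (by rw [card_pair]; exact h1) (by rw [card_pair]; exact h2)
    (by
      have h4 := card_pair (x := x) (mul_mem hzm hvm)
      rw [← h4] at h3
      exact h3)
  rintro ⟨g, hg⟩ h4
  exact Subtype.ext (hiso g (mem_centralizer_singleton_iff.1 hg) (congrArg Subtype.val h4))

end Cfsg.Agent.H555.Hall
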