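import Cfsg.Agent.H555.Hall.FourGen
import Cfsg.Agent.H555.Hall.HNCert

/-!
# The Harada–Norton group: the centralizers of `w1` and `w3` (helper555)

An odd prime `t ≠ 5` does not divide `|C(ψ w1)|`, `|C(ψ w3)|`.
-/

set_option autoImplicit false
set_option maxRecDepth 100000

namespace Cfsg.Agent.H555.Hall.HNFive

open Cfsg.Agent.HN.Pres Cfsg.Agent.HN.H0Basic
open Cfsg.Agent.HN.P1408 hiding ψ
open Cfsg.Agent.HN.NormalH (ψ)
open Cfsg.Agent.HN.XWords (W0 W0_sq)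
open Cfsg Cfsg.Agent
open Cfsg.Agent.KFacts.HN
open Cfsg.Agent.CpAutTh.RankOne (UInv)
open Cfsg.Agent.CpAutHN.Alt
open Cfsg.Agent.CpAutHN.Pairs (instSimple tt order_tt comm_of)
open Cfsg.Agent.CpAutHNFive Cfsg.Agent.CpAutHNFive.TFive Cfsg.Agent.CpAutHNFive.HTab Cfsg.Agent.CpAutHNFive.LFive
  Cfsg.Agent.CpAutHNFive.PFive
open Cfsg.Agent.CpAutHNFive.HFacts Cfsg.Agent.CpAutHNFive.TauFive Cfsg.Agent.CpAutHNFive.QD
open Subgroup

/-! ### `|C(w1)|` -/

theorem eight_dvd_w1 : 8 ∣ Nat.card ↥(centralizer ({hw w1} : Set H0)) := by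
  have := finite_H0
  have hτ : τ ∈ centralizer ({hw w1} : Set H0) := mem_centralizer_singleton_iff.2 (τ_comm _).symm
  have hq : hw wq ∈ centralizer ({hw w1} : Set H0) := mem_centralizer_singleton_iff.2 q_comm
  have h3 := mul_order_dvd (C := ↥(centralizer ({hw w1} : Set H0))) (a := ⟨τ, hτ⟩) (b := ⟨hw wq, hq⟩)
    (Subtype.ext (τ_comm _).symm)
    (inf_eq_bot_of_prime Nat.prime_two (by rw [← Subgroup.orderOf_coe]; exact order_τ) (by
      intro h
      apply τ_not_mem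
      obtain ⟨k, hk⟩ := mem_zpowers_iff.1 h
      exact mem_zpowers_iff.2 ⟨k, congrArg Subtype.val hk⟩))
  rw [← Subgroup.orderOf_coe, ← Subgroup.orderOf_coe] at h3
  change orderOf τ * orderOf (hw wq) ∣ _ at h3
  rw [order_τ, order_q] at h3
  exact h3

theorem conj_z : (hw (cwd (0, 0, 1, 0, 0, 0, 1)))⁻¹ * hw wz * hw (cwd (0, 0, 1, 0, 0, 0, 1)) = hw w1 := by
  have h1 : chkE (0, 0, 1, 0, 0, 0, 1) = true := (tb_ok _ (by decide)).1
  have h5 := hw_eq h1
  rw [hw_append, hw_append, elw, hw_append, hw_append, hw_rp, hw_rp, hw_rp, hw_rp] at h5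
  simp only [pow_zero, one_mul, pow_one] at h5
  rw [mul_assoc, h5, inv_mul_cancel_left]
  rfl

theorem dvd125 : 125 ∣ Nat.card ↥(centralizer ({hw w1} : Set H0)) := by
  have := finite_H0
  have hcard := card_closure c5 d5 z5 z1 cz dz cd
  have hle : closure ({hw wc, hw wd} : Set H0) ≤ centralizer ({hw wz} : Set H0) := by
    rw [closure_le]
    rintro y (rfl | rfl)
    · exact mem_centralizer_singleton_iff.2 cz
    · exact mem_centralizer_singleton_iff.2 dz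
  have h1 : 125 ∣ Nat.card ↥(centralizer ({hw wz} : Set H0)) := by
    have h2 := card_dvd_of_le hle
    rw [hcard] at h2
    exact h2
  have e := cequiv (hw (cwd (0, 0, 1, 0, 0, 0, 1)))⁻¹ (hw wz)
  rw [inv_inv, conj_z] at e
  rwa [Nat.card_congr e.toEquiv] at h1

theorem cent_one {t : ℕ} (ht : t.Prime) (h2 : t ≠ 2) (h5 : t ≠ 5) : ¬ t ∣ Nat.card ↥(centralizer ({hw w1} : Set H0)) := by
  have := finite_H0
  intro h
  have h3 : 3 ≤ t := by
    have := ht.two_le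
    omega
  have h4 : 8 * 125 * t ∣ Nat.card ↥(centralizer ({hw w1} : Set H0)) := by
    refine Nat.Coprime.mul_dvd_of_dvd_of_dvd ?_ (Nat.Coprime.mul_dvd_of_dvd_of_dvd (by norm_num) eight_dvd_w1 dvd125) h
    rw [show 8 * 125 = 2 ^ 3 * 5 ^ 3 by norm_num]
    exact Nat.Coprime.mul_left (Nat.Coprime.pow_left _ ((Nat.coprime_primes Nat.prime_two ht).2 (Ne.symm h2)))
      (Nat.Coprime.pow_left _ ((Nat.coprime_primes Nat.prime_five ht).2 (Ne.symm h5)))
  have h6 := Nat.le_of_dvd Nat.card_pos h4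
  have h7 := HNCert.card_le_one
  omega

theorem not_dvd_100 {t : ℕ} (ht : t.Prime) (h2 : t ≠ 2) (h5 : t ≠ 5) : ¬ t ∣ 100 := by
  intro h
  rw [show 100 = 2 ^ 2 * 5 ^ 2 by norm_num] at h
  rcases ht.dvd_mul.1 h with h1 | h1
  · exact h2 ((Nat.prime_dvd_prime_iff_eq ht Nat.prime_two).1 (ht.dvd_of_dvd_pow h1))
  · exact h5 ((Nat.prime_dvd_prime_iff_eq ht Nat.prime_five).1 (ht.dvd_of_dvd_pow h1))

theorem cent_three {t : ℕ} (ht : t.Prime) (h2 : t ≠ 2) (h5 : t ≠ 5) : ¬ t ∣ Nat.card ↥(centralizer ({hw w3} : Set H0)) := by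
  rw [HFacts.card_three]
  exact not_dvd_100 ht h2 h5

/-! ### pairs -/

theorem card_conj {G : Type*} [Group G] (c x v : G) :
    Nat.card ↥(centralizer ({x} : Set G) ⊓ centralizer ({v} : Set G) : Subgroup G) =
      Nat.card ↥(centralizer ({c * x * c⁻¹} : Set G) ⊓ centralizer ({c * v * c⁻¹} : Set G) : Subgroup G) := by
  rw [← map_centralizer, ← map_centralizer, ← Subgroup.map_inf _ _ _ (MulAut.conj c).injective,
    card_map_of_injective (MulAut.conj c).injective]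

theorem card_H0 (y : H0) : Nat.card ↥(centralizer ({ψ y} : Set G) ⊓ centralizer ({ψ τ} : Set G) : Subgroup G) =
    Nat.card ↥(centralizer ({y} : Set H0)) := by
  rw [Nat.card_congr (equiv_C y).toEquiv]
  exact (Cfsg.Agent.H555.Hall.card_pair (x := ψ y) (v := ψ τ) _).symm

theorem pair_τ {x v : G} (hx : orderOf x = 5) (hv : IsConj (ψ τ) v) (hvx : v * x = x * v)
    (hnot : ¬ Nonempty (↥(centralizer ({x} : Set G)) ≃* ↥(centralizer ({ψ (hw w2)} : Set G))))
    {t : ℕ} (ht : t.Prime) (h2 : t ≠ 2) (h5 : t ≠ 5) :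
    ¬ t ∣ Nat.card ↥(centralizer ({x} : Set G) ⊓ centralizer ({v} : Set G) : Subgroup G) := by
  obtain ⟨c, hc⟩ := isConj_iff.1 hv.symm
  have h1 : c * x * c⁻¹ * ψ τ = ψ τ * (c * x * c⁻¹) := by
    rw [← hc]
    calc c * x * c⁻¹ * (c * v * c⁻¹) = c * (x * v) * c⁻¹ := by group
      _ = c * (v * x) * c⁻¹ := by rw [hvx]
      _ = _ := by group
  obtain ⟨y, hy⟩ := emb.cent _ h1
  have hy5 : orderOf y = 5 := by
    rw [← orderOf_injective ψ emb.inj, hy, ← hx]
    exact MulEquiv.orderOf_eq (MulAut.conj c) x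
  rw [card_conj c x v, hc, ← hy, card_H0]
  obtain ⟨g, m, hm1, hm5, w, hw', hg⟩ := five_conj hy5
  have hw5 : orderOf (hw w) = 5 := by
    rcases hw' with rfl | rfl | rfl
    · exact order_w1
    · exact order_w2
    · exact order_w3
  obtain ⟨e⟩ := cequiv_pow (x := hw w) (y := y) hw5 (g := g⁻¹) hm1 hm5 (by rw [← hg]; group)
  rw [← Nat.card_congr e.toEquiv]
  rcases hw' with rfl | rfl | rfl
  · exact cent_one ht h2 h5
  · exfalso
    apply hnot
    have hw5' : orderOf (ψ (hw w2)) = 5 := by rw [orderOf_injective _ emb.inj]; exact hw5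
    have h3 : (ψ g * c)⁻¹ * ψ (hw w2) ^ m * ((ψ g * c)⁻¹)⁻¹ = x := by
      rw [← map_pow, ← hg, map_mul, map_mul, map_inv, hy]
      group
    obtain ⟨e'⟩ := cequiv_pow hw5' hm1 hm5 h3
    exact ⟨e'.symm⟩
  · exact cent_three ht h2 h5

/-- type II -/
theorem two_not_dvd {y : PP} (h : ρ y = φA LFive.c5 * φB (LFive.c5 ^ 3)) {t : ℕ} (ht : t.Prime) (h2 : t ≠ 2) (h5 : t ≠ 5) :
    ¬ t ∣ Nat.card ↥(centralizer ({sx y} : Set ↥(centralizer ({(y : G)} : Set G)))) := by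
  intro hd
  obtain ⟨n, hn⟩ := IsPGroup.iff_card.1 (ker_two y)
  have h5F : Fact (Nat.Prime 5) := ⟨Nat.prime_five⟩
  have hr : IsPGroup 5 ↥(fC y).range := by
    rintro ⟨z, hz⟩
    refine ⟨1, Subtype.ext ?_⟩
    change z ^ 5 ^ 1 = 1
    rw [pow_one]
    obtain ⟨u, rfl⟩ := hz
    have hc := fC_comm y u
    rw [h] at hc
    exact pow_of_comm (mem_LL_of_comm hc) (Or.inr rfl) hc
  obtain ⟨m, hm⟩ := IsPGroup.iff_card.1 hr
  have h3 : Nat.card ↥(centralizer ({sx y} : Set ↥(centralizer ({(y : G)} : Set G)))) = 2 ^ n * 5 ^ m := by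
    rw [← hn, ← hm, ← (fC y).ker.card_mul_index, Subgroup.index_ker]
  rw [h3] at hd
  rcases ht.dvd_mul.1 hd with h1 | h1
  · exact h2 ((Nat.prime_dvd_prime_iff_eq ht Nat.prime_two).1 (ht.dvd_of_dvd_pow h1))
  · exact h5 ((Nat.prime_dvd_prime_iff_eq ht Nat.prime_five).1 (ht.dvd_of_dvd_pow h1))

/-- the standard form of an element of order 5 commuting with `W0` and with a second involution -/
theorem std_W {x u : G} (hx : orderOf x = 5) (hxW : x * W0 = W0 * x) (hu : orderOf u = 2) (huW : u ≠ W0)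
    (hucW : u * W0 = W0 * u) (hux : u * x = x * u) :
    ∃ (g y : PP) (m : ℕ), 1 ≤ m ∧ m < 5 ∧ (y : G) = g * x ^ m * (g : G)⁻¹ ∧ orderOf y = 5 ∧
      (ρ y = φA LFive.c5 * φB LFive.c5 ∨ ρ y = φA LFive.c5 * φB (LFive.c5 ^ 3)) := by
  have hxP : orderOf (⟨x, mem_PP.2 hxW⟩ : PP) = 5 := by rw [← Subgroup.orderOf_coe]; exact hx
  obtain ⟨g, m, hm1, hm5, h⟩ := conj_std hxP
  refine ⟨g, g * ⟨x, mem_PP.2 hxW⟩ ^ m * g⁻¹, m, hm1, hm5, rfl, ?_, ?_⟩
  · have h1 : orderOf ((⟨x, mem_PP.2 hxW⟩ : PP) ^ m) = 5 := by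
      rw [orderOf_pow, hxP]
      interval_cases m <;> rfl
    rw [← h1]
    exact MulEquiv.orderOf_eq (MulAut.conj g) _
  · rcases h with h | h
    · exfalso
      have h1 : (g : G) * u * (g : G)⁻¹ ∈ centralizer
          ({((g * ⟨x, mem_PP.2 hxW⟩ ^ m * g⁻¹ : PP) : G)} : Set G) := by
        rw [mem_centralizer_singleton_iff]
        change (g : G) * u * (g : G)⁻¹ * ((g : G) * x ^ m * (g : G)⁻¹) = (g : G) * x ^ m * (g : G)⁻¹ * (g * u * (g : G)⁻¹)
        have h2 := ((show Commute u x from hux).pow_right m).eq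
        calc (g : G) * u * (g : G)⁻¹ * ((g : G) * x ^ m * (g : G)⁻¹) = g * (u * x ^ m) * (g : G)⁻¹ := by group
          _ = g * (x ^ m * u) * (g : G)⁻¹ := by rw [h2]
          _ = _ := by group
      have hgW : (g : G) * W0 * (g : G)⁻¹ = W0 := by rw [mem_PP.1 g.2, mul_inv_cancel_right]
      have h3 := unique_one h ⟨_, h1⟩ (by
        rw [Subgroup.orderOf_mk, ← hu]
        exact MulEquiv.orderOf_eq (MulAut.conj (g : G)) u) (Subtype.ext (by
          change (g : G) * u * (g : G)⁻¹ * W0 = W0 * (g * u * (g : G)⁻¹)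
          calc (g : G) * u * (g : G)⁻¹ * W0 = g * u * (g : G)⁻¹ * (g * W0 * (g : G)⁻¹) := by rw [hgW]
            _ = g * (u * W0) * (g : G)⁻¹ := by group
            _ = g * (W0 * u) * (g : G)⁻¹ := by rw [hucW]
            _ = (g * W0 * (g : G)⁻¹) * (g * u * (g : G)⁻¹) := by group
            _ = _ := by rw [hgW]))
      have h4 : (g : G) * u * (g : G)⁻¹ = W0 := congrArg Subtype.val h3
      apply huW
      rw [← hgW] at h4
      exact mul_left_cancel (mul_right_cancel h4)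
    · exact h

theorem pair_W0 {x u : G} (hx : orderOf x = 5) (hxW : x * W0 = W0 * x) (hu : orderOf u = 2) (huW : u ≠ W0)
    (hucW : u * W0 = W0 * u) (hux : u * x = x * u) {t : ℕ} (ht : t.Prime) (h2 : t ≠ 2) (h5 : t ≠ 5) :
    ¬ t ∣ Nat.card ↥(centralizer ({x} : Set G) ⊓ centralizer ({W0} : Set G) : Subgroup G) := by
  obtain ⟨g, y, m, hm1, hm5, hy, hy5, h⟩ := std_W hx hxW hu huW hucW hux
  have hgW : (g : G) * W0 * (g : G)⁻¹ = W0 := by rw [mem_PP.1 g.2, mul_inv_cancel_right]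
  rw [← centralizer_pow hx hm1 hm5, card_conj (g : G) (x ^ m) W0, hgW, ← hy]
  rw [← TauFive.card_pair]
  rcases h with h | h
  · exact fun hd => not_dvd_100 ht h2 h5 (hd.trans (TFive.card_three h))
  · exact two_not_dvd h ht h2 h5

theorem pair_W {x v u : G} (hx : orderOf x = 5) (hv : IsConj W0 v) (hvx : v * x = x * v) (hu : orderOf u = 2)
    (huv : u ≠ v) (hucv : u * v = v * u) (hux : u * x = x * u) {t : ℕ} (ht : t.Prime) (h2 : t ≠ 2) (h5 : t ≠ 5) :
    ¬ t ∣ Nat.card ↥(centralizer ({x} : Set G) ⊓ centralizer ({v} : Set G) : Subgroup G) := by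
  obtain ⟨c, hc⟩ := isConj_iff.1 hv.symm
  have hcm : ∀ a b : G, a * b = b * a → c * a * c⁻¹ * (c * b * c⁻¹) = c * b * c⁻¹ * (c * a * c⁻¹) := by
    intro a b hab
    calc c * a * c⁻¹ * (c * b * c⁻¹) = c * (a * b) * c⁻¹ := by group
      _ = c * (b * a) * c⁻¹ := by rw [hab]
      _ = _ := by group
  rw [card_conj c x v, hc]
  refine pair_W0 (u := c * u * c⁻¹) ?_ ?_ ?_ ?_ ?_ (hcm u x hux) ht h2 h5
  · rw [← hx]; exact MulEquiv.orderOf_eq (MulAut.conj c) x
  · rw [← hc]; exact hcm x v hvx.symm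
  · rw [← hu]; exact MulEquiv.orderOf_eq (MulAut.conj c) u
  · rw [← hc]
    intro h
    exact huv (mul_left_cancel (mul_right_cancel h))
  · rw [← hc]; exact hcm u v hucv

end Cfsg.Agent.H555.Hall.HNFive
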