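import Cfsg.Agent.H555.Hall.NonAb

/-!
# Noncommuting elements of a `p`-subgroup, from relations (helper555)

`exists_pgroup` : `g ^ p = h ^ p = c ^ p = 1`, `c` commutes with `g`, `h` and `h g = c g h`: the elements `g`, `h` lie in
a `p`-subgroup.
-/

set_option autoImplicit false

namespace Cfsg.Agent.H555.Hall

open Subgroup Cfsg

theorem exists_pgroup {G : Type*} [Group G] [Finite G] {p : ℕ} (hp : p.Prime) {g h c : G} (hg : g ^ p = 1)
    (hh : h ^ p = 1) (hc : c ^ p = 1) (hcg : c * g = g * c) (hch : c * h = h * c) (hgh : h * g = c * (g * h)) :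
    ∃ P : Subgroup G, IsPGroup p P ∧ g ∈ P ∧ h ∈ P := by
  have hz : ∀ x : G, x ^ p = 1 → IsPGroup p (zpowers x) := by
    intro x hx
    have h1 := (Nat.dvd_prime hp).mp (orderOf_dvd_of_pow_eq_one hx)
    rcases h1 with h1 | h1
    · refine IsPGroup.of_card (n := 0) ?_
      rw [Nat.card_zpowers, h1, pow_zero]
    · refine IsPGroup.of_card (n := 1) ?_
      rw [Nat.card_zpowers, h1, pow_one]
  have hA : IsPGroup p ((zpowers g ⊔ zpowers c : Subgroup G)) := by
    refine (hz g hg).to_sup_of_normal_right' (hz c hc) ?_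
    rw [zpowers_le, mem_normalizer_iff]
    intro x
    have key : ∀ x ∈ zpowers c, g * x = x * g := by
      rintro x hx
      obtain ⟨n, rfl⟩ := mem_zpowers_iff.1 hx
      have : Commute g c := hcg.symm
      exact (this.zpow_right n).eq
    constructor
    · intro hx
      rw [key x hx, mul_inv_cancel_right]
      exact hx
    · intro hx
      have h1 := key _ hx
      have h2 : g * x * g⁻¹ = x := by
        have h3 : g * (g * x * g⁻¹) = g * x := by rw [h1, inv_mul_cancel_right]
        exact mul_left_cancel h3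
      rwa [h2] at hx
  refine ⟨zpowers h ⊔ (zpowers g ⊔ zpowers c), ?_, ?_, ?_⟩
  · refine (hz h hh).to_sup_of_normal_right' hA ?_
    rw [zpowers_le]
    refine mem_normalizer_fintype ?_
    have hle : (zpowers g ⊔ zpowers c : Subgroup G) ≤ (zpowers g ⊔ zpowers c : Subgroup G).comap (MulAut.conj h).toMonoidHom := by
      rw [sup_le_iff, zpowers_le, zpowers_le]
      constructor
      · change h * g * h⁻¹ ∈ (zpowers g ⊔ zpowers c : Subgroup G)
        have h1 : h * g * h⁻¹ = c * g := by rw [hgh, mul_assoc c, mul_assoc g, mul_inv_cancel, mul_one]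
        rw [h1]
        exact mul_mem (mem_sup_right (mem_zpowers c)) (mem_sup_left (mem_zpowers g))
      · change h * c * h⁻¹ ∈ (zpowers g ⊔ zpowers c : Subgroup G)
        rw [← hch, mul_inv_cancel_right]
        exact mem_sup_right (mem_zpowers c)
    intro n hn
    exact hle hn
  · exact mem_sup_right (mem_sup_left (mem_zpowers g))
  · exact mem_sup_left (mem_zpowers h)

/-- the nonabelian Sylow subgroups, transported by an isomorphism -/
theorem nonab_of_rel {G G' : Type*} [Group G] [Finite G] [Group G'] [Finite G'] (e : G ≃* G') {p a : ℕ}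
    (hp : p.Prime) (hpa : ¬ p ^ (a + 1) ∣ Nat.card G) {g h c : G'} (hg : g ^ p = 1)
    (hh : h ^ p = 1) (hc : c ^ p = 1) (hcg : c * g = g * c) (hch : c * h = h * c) (hgh : h * g = c * (g * h))
    (hne : h * g ≠ g * h) (S : Subgroup G) (hS : Nat.card S = p ^ a) : ∃ x ∈ S, ∃ y ∈ S, x * y ≠ y * x := by
  obtain ⟨P, hP, hgP, hhP⟩ := exists_pgroup hp hg hh hc hcg hch hgh
  refine nonab_of_pair hp hpa (P := P.map e.symm.toMonoidHom) (hP.map _) (x := e.symm h) (y := e.symm g)
    (mem_map_of_mem _ hhP) (mem_map_of_mem _ hgP) (fun h1 => hne ?_) S hS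
  rw [← map_mul, ← map_mul] at h1
  exact e.symm.injective h1

end Cfsg.Agent.H555.Hall
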