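import Cfsg.Agent.H165.ZJCrit

/-!
# Numerical rows: `OddC G` from the order of `G` (helper555)

`Chk l N` : `l` lists pairs `(p, a)` in the order of the rank; `p ^ (a + 1) ∤ N`, and `q ∤ p ^ i - 1` for `1 ≤ i ≤ a` if
`(q, b)` comes after `(p, a)`.

* `exists_rk` : the injective rank;
* `oddC_of_chk` : `OddC G` if all odd primes dividing `|G| = N` are in `l`;
* `oddC_of_dom` : the version with a dominant prime `s` (`H165.ZJCrit.oddC_of_dominant`).
-/

set_option autoImplicit false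

namespace Cfsg.Agent.H555.Hall

open Cfsg Cfsg.Agent.H988.CPi Cfsg.Agent.H553.OddHall Cfsg.Agent.H165.ZJCrit

universe u

/-- the numerical check -/
def chk (l : List (ℕ × ℕ)) (N : ℕ) : Bool :=
  match l with
  | [] => true
  | x :: t => !decide (x.1 ^ (x.2 + 1) ∣ N) && t.all (fun y => !decide (y.1 = x.1) &&
      (List.range x.2).all fun i => !decide (y.1 ∣ x.1 ^ (i + 1) - 1)) && chk t N

/-- the rank -/
def rk (l : List (ℕ × ℕ)) (p : ℕ) : ℕ :=
  match l with
  | [] => p
  | x :: t => if p = x.1 then 0 else rk t p + 1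

theorem rk_injective (l : List (ℕ × ℕ)) : Function.Injective (rk l) := by
  induction l with
  | nil => exact fun a b h => h
  | cons x t ih =>
    intro a b h
    by_cases ha : a = x.1
    · by_cases hb : b = x.1
      · rw [ha, hb]
      · rw [rk, rk, if_pos ha, if_neg hb] at h
        omega
    · by_cases hb : b = x.1
      · rw [rk, rk, if_neg ha, if_pos hb] at h
        omega
      · rw [rk, rk, if_neg ha, if_neg hb] at h
        exact ih (by omega)

theorem chk_spec {N : ℕ} : ∀ (l : List (ℕ × ℕ)), chk l N = true → ∀ p q : ℕ, p ∈ l.map Prod.fst → q ∈ l.map Prod.fst →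
    rk l p < rk l q → ∀ i, 1 ≤ i → p ^ i ∣ N → ¬ q ∣ p ^ i - 1
  | [], _, p, q, hp, _, _ => by simp at hp
  | x :: t, h, p, q, hp, hq, hlt => by
    intro i hi hiN
    rw [chk, Bool.and_eq_true, Bool.and_eq_true] at h
    obtain ⟨⟨h1, h2⟩, h3⟩ := h
    by_cases hpx : p = x.1
    · -- the first
      have hqx : q ≠ x.1 := by
        intro hqx
        rw [rk, rk, if_pos hpx, if_pos hqx] at hlt
        omega
      rw [List.map_cons, List.mem_cons] at hq
      obtain ⟨y, hy, rfl⟩ := List.mem_map.1 (hq.resolve_left hqx)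
      have h4 := List.all_eq_true.1 h2 y hy
      rw [Bool.and_eq_true] at h4
      have h5 : ¬ x.1 ^ (x.2 + 1) ∣ N := by simpa using h1
      have h6 : i ≤ x.2 := by
        by_contra hlt'
        apply h5
        rw [hpx] at hiN
        exact (pow_dvd_pow _ (by omega)).trans hiN
      have h7 := List.all_eq_true.1 h4.2 (i - 1) (List.mem_range.2 (by omega))
      have h8 : ¬ y.1 ∣ x.1 ^ (i - 1 + 1) - 1 := by simpa using h7
      rw [Nat.sub_add_cancel hi] at h8
      rw [hpx]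
      exact h8
    · have hqx : q ≠ x.1 := by
        intro hqx
        rw [rk, rk, if_neg hpx, if_pos hqx] at hlt
        omega
      rw [rk, rk, if_neg hpx, if_neg hqx] at hlt
      rw [List.map_cons, List.mem_cons] at hp hq
      exact chk_spec t h3 p q (hp.resolve_left hpx) (hq.resolve_left hqx) (by omega) i hi hiN

/-- product of the prime powers -/
def prd (l : List (ℕ × ℕ)) : ℕ := (l.map fun x => x.1 ^ x.2).prod

theorem mem_of_dvd {l : List (ℕ × ℕ)} (hp : ∀ x ∈ l, x.1.Prime) {q : ℕ} (hq : q.Prime) (h : q ∣ prd l) :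
    q ∈ l.map Prod.fst := by
  obtain ⟨y, hy, hd⟩ := (Nat.Prime.prime hq).dvd_prod_iff.1 h
  obtain ⟨x, hx, rfl⟩ := List.mem_map.1 hy
  have h1 := hq.dvd_of_dvd_pow hd
  rw [(Nat.prime_dvd_prime_iff_eq hq (hp x hx)).1 h1]
  exact List.mem_map_of_mem hx

/-- **Numerical rows.** -/
theorem oddC_of_chk {G : Type u} [Group G] [Finite G] {N c : ℕ} (hN : Nat.card G = N) (l : List (ℕ × ℕ))
    (hp : ∀ x ∈ l, x.1.Prime) (hl : 2 ^ c * prd l = N) (hc : chk l N = true) : OddC G := by
  intro π h2 H K hH hK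
  refine conj_of_pairs_rk (rk l) (rk_injective l) π h2 ?_ hH hK
  intro s t hs ht hsπ htπ hst hsd htd
  have key : ∀ q : ℕ, q.Prime → q ∈ π → q ∣ Nat.card G → q ∈ l.map Prod.fst := by
    intro q hq hqπ hqd
    rw [hN, ← hl] at hqd
    rcases hq.dvd_mul.1 hqd with h | h
    · exact absurd ((Nat.prime_dvd_prime_iff_eq hq Nat.prime_two).1 (hq.dvd_of_dvd_pow h) ▸ hqπ) h2
    · exact mem_of_dvd hp hq h
  refine pairN_of_count ht fun i hi hd => ?_
  rw [hN] at hd
  exact chk_spec l hc s t (key s hs hsπ hsd) (key t ht htπ htd) hst i hi hd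

/-- **Rows with a dominant prime.** -/
theorem oddC_of_dom {G : Type u} [Group G] [Finite G] [IsSimpleGroup G] (hnc : ¬ IsMulCommutative G)
    (hind : OddInd G) {N c s a : ℕ} (hN : Nat.card G = N) (l : List (ℕ × ℕ)) (hs : s.Prime) (ha0 : a ≠ 0)
    (hp : ∀ x ∈ l, x.1.Prime) (hl : 2 ^ c * (s ^ a * prd l) = N) (hc : chk l N = true)
    (hcent : ∀ r, r.Prime → r ∈ l.map Prod.fst → ∃ e : ℕ,
      (∀ k, 1 ≤ k → r ^ k ∣ N → ¬ s ^ (e + 1) ∣ r ^ k - 1) ∧
      ∀ y : G, orderOf y = r → ¬ s ^ (a - e) ∣ Nat.card (Subgroup.centralizer ({y} : Set G))) : OddC G := by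
  have hsa : s ^ a ∣ Nat.card G := by
    rw [hN, ← hl]
    exact (dvd_mul_right _ _).mul_left _
  have key : ∀ q : ℕ, q.Prime → q ≠ 2 → q ≠ s → q ∣ Nat.card G → q ∈ l.map Prod.fst := by
    intro q hq hq2 hqs hqd
    rw [hN, ← hl] at hqd
    rcases hq.dvd_mul.1 hqd with h | h
    · exact absurd ((Nat.prime_dvd_prime_iff_eq hq Nat.prime_two).1 (hq.dvd_of_dvd_pow h)) hq2
    · rcases hq.dvd_mul.1 h with h | h
      · exact absurd ((Nat.prime_dvd_prime_iff_eq hq hs).1 (hq.dvd_of_dvd_pow h)) hqs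
      · exact mem_of_dvd hp hq h
  refine oddC_of_dominant hnc hind hs ((dvd_pow_self s ha0).trans hsa) hsa ?_ (rk l) (rk_injective l) ?_
  · intro r hr hr2 hrs hrd
    obtain ⟨e, he1, he2⟩ := hcent r hr (key r hr hr2 hrs hrd)
    exact ⟨e, fun k hk hd => he1 k hk (hN ▸ hd), he2⟩
  · intro p q hp' hq' hp2 hq2 hps hqs hpd hqd hlt i hi hd
    rw [hN] at hd
    exact chk_spec l hc p q (key p hp' hp2 hps hpd) (key q hq' hq2 hqs hqd) hlt i hi hd

end Cfsg.Agent.H555.Hall
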