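import Cfsg.Agent.H555.Hall.Heis
import Cfsg.Agent.H555.Hall.Num
import Cfsg.Agent.RuD.Letters

/-!
# `OddC` for the Rudvalis group (helper555)

The Sylow 3-subgroups of `Ru` are not abelian; the only pair of odd primes which is bad in both orders is `(3, 13)`.
-/

set_option autoImplicit false
set_option maxRecDepth 100000

namespace Cfsg.Agent.H555.Hall

open Subgroup Cfsg

/-- numerical check with exceptions: `(y, x) ∈ E` stands for `PairN y x G` -/
def chkE (E : List (ℕ × ℕ)) (l : List (ℕ × ℕ)) (N : ℕ) : Bool :=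
  match l with
  | [] => true
  | x :: t => !decide (x.1 ^ (x.2 + 1) ∣ N) && t.all (fun y => !decide (y.1 = x.1) &&
      (decide ((y.1, x.1) ∈ E) || (List.range x.2).all fun i => !decide (y.1 ∣ x.1 ^ (i + 1) - 1))) && chkE E t N

theorem chkE_spec {E : List (ℕ × ℕ)} {N : ℕ} : ∀ (l : List (ℕ × ℕ)), chkE E l N = true → ∀ p q : ℕ,
    p ∈ l.map Prod.fst → q ∈ l.map Prod.fst → rk l p < rk l q → (q, p) ∈ E ∨ ∀ i, 1 ≤ i → p ^ i ∣ N → ¬ q ∣ p ^ i - 1
  | [], _, p, q, hp, _, _ => by simp at hp
  | x :: t, h, p, q, hp, hq, hlt => by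
    rw [chkE, Bool.and_eq_true, Bool.and_eq_true] at h
    obtain ⟨⟨h1, h2⟩, h3⟩ := h
    by_cases hpx : p = x.1
    · -- the first
      have hqx : q ≠ x.1 := by
        intro hqx
        rw [rk, rk, if_pos hpx, if_pos hqx] at hlt
        omega
      rw [List.map_cons, List.mem_cons] at hq
      obtain ⟨y, hy, rfl⟩ := List.mem_map.1 (hq.resolve_left hqx)
      have h4 := List.all_eq_true.1 h2 y hy
      rw [Bool.and_eq_true, Bool.or_eq_true] at h4
      rcases h4.2 with h6 | h6
      · left
        rw [hpx]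
        exact of_decide_eq_true h6
      · right
        intro i hi hiN
        have h5 : ¬ x.1 ^ (x.2 + 1) ∣ N := by simpa using h1
        have h8 : i ≤ x.2 := by
          by_contra hlt'
          apply h5
          rw [hpx] at hiN
          exact (pow_dvd_pow _ (by omega)).trans hiN
        have h7 := List.all_eq_true.1 h6 (i - 1) (List.mem_range.2 (by omega))
        have h8 : ¬ y.1 ∣ x.1 ^ (i - 1 + 1) - 1 := by simpa using h7
        rw [Nat.sub_add_cancel hi] at h8
        rw [hpx]
        exact h8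
    · have hqx : q ≠ x.1 := by
        intro hqx
        rw [rk, rk, if_neg hpx, if_pos hqx] at hlt
        omega
      rw [rk, rk, if_neg hpx, if_neg hqx] at hlt
      rw [List.map_cons, List.mem_cons] at hp hq
      exact chkE_spec t h3 p q (hp.resolve_left hpx) (hq.resolve_left hqx) (by omega)

open Cfsg.Agent.H553.OddHall Cfsg.Agent.H165.ZJCrit in
/-- **Numerical rows with exceptions.** -/
theorem oddC_of_chkE {G : Type*} [Group G] [Finite G] {N c : ℕ} (hN : Nat.card G = N) (l E : List (ℕ × ℕ))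
    (hp : ∀ x ∈ l, x.1.Prime) (hl : 2 ^ c * prd l = N) (hE : ∀ x ∈ E, PairN x.1 x.2 G) (hc : chkE E l N = true) :
    OddC G := by
  intro π h2 H K hH hK
  refine conj_of_pairs_rk (rk l) (rk_injective l) π h2 ?_ hH hK
  intro s t hs ht hsπ htπ hst hsd htd
  have key : ∀ q : ℕ, q.Prime → q ∈ π → q ∣ Nat.card G → q ∈ l.map Prod.fst := by
    intro q hq hqπ hqd
    rw [hN, ← hl] at hqd
    rcases hq.dvd_mul.1 hqd with h | h
    · exact absurd ((Nat.prime_dvd_prime_iff_eq hq Nat.prime_two).1 (hq.dvd_of_dvd_pow h) ▸ hqπ) h2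
    · exact mem_of_dvd hp hq h
  rcases chkE_spec l hc s t (key s hs hsπ hsd) (key t ht htπ htd) hst with h | h
  · exact hE _ h
  · refine pairN_of_count ht fun i hi hd => ?_
    rw [hN] at hd
    exact h i hi hd

namespace RuRow

open Cfsg.Agent.Lib Cfsg.Agent.Lib.BitNet Cfsg.Agent.SporadicB Cfsg.Agent.SporadicB.RuData Cfsg.Agent.SporadicB.RuOrder
open Cfsg.Agent.RuD.Data Cfsg.Agent.SporRec.TCUpperCert Cfsg.Agent.SporRec.R3.Kernel Cfsg.Agent.RuD.Letters

/-- equality of words at the base points -/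
noncomputable def eqK (u v : List ℕ) : Bool :=
  allL (fun b => Nat.beq (evalK u b) (evalK v b)) [0, 29, 580, 577]

theorem eq_of_eqK {u v : List ℕ} (h : eqK u v = true) : wprod ml u = (wprod ml v : RuOrder.H) := by
  have h1 := (allL_iff _ _).1 h
  apply eq_of_base
  intro b hb
  rw [evalK_eq, evalK_eq]
  simp only [List.mem_cons, List.not_mem_nil, or_false] at hb
  rcases hb with rfl | rfl | rfl | rfl
  · exact Nat.eq_of_beq_eq_true (h1 0 (by simp))
  · exact Nat.eq_of_beq_eq_true (h1 29 (by simp))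
  · exact Nat.eq_of_beq_eq_true (h1 580 (by simp))
  · exact Nat.eq_of_beq_eq_true (h1 577 (by simp))

def wx : List ℕ := [3, 4, 5, 1, 3, 5, 0, 7, 5, 8, 1, 7]
def wy : List ℕ := [6, 3, 4, 5, 1, 3, 5, 0, 7, 5, 8, 1, 7, 1]

theorem chk_x : eqK (wx ++ (wx ++ wx)) [] = true := by decide +kernel
theorem chk_y : eqK (wy ++ (wy ++ wy)) [] = true := by decide +kernel
theorem chk_d : eqK ([8] ++ ([8] ++ [8])) [] = true := by decide +kernel
theorem chk_dx : eqK ([8] ++ wx) (wx ++ [8]) = true := by decide +kernel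
theorem chk_dy : eqK ([8] ++ wy) (wy ++ [8]) = true := by decide +kernel
theorem chk_xy : eqK (wx ++ wy) ([8] ++ (wy ++ wx)) = true := by decide +kernel
theorem chk_ne : (Nat.beq (evalK (wx ++ wy) 0) (evalK (wy ++ wx) 0) &&
    Nat.beq (evalK (wx ++ wy) 29) (evalK (wy ++ wx) 29)) = false := by decide +kernel

theorem cube {w : List ℕ} (h : eqK (w ++ (w ++ w)) [] = true) : (wprod ml w : RuOrder.H) ^ 3 = 1 := by
  have h1 := eq_of_eqK h
  rw [wprod_append, wprod_append, wprod_nil] at h1
  rw [← h1]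
  simp only [pow_succ, pow_zero, one_mul, mul_assoc]

theorem ne : (wprod ml wx : RuOrder.H) * wprod ml wy ≠ wprod ml wy * wprod ml wx := by
  rw [← wprod_append, ← wprod_append]
  intro h
  have h1 : evalK (wx ++ wy) 0 = evalK (wy ++ wx) 0 := by
    have h2 := evalK_eq (wx ++ wy) b1
    rw [h, evalK_eq] at h2
    exact h2.symm
  have h3 : evalK (wx ++ wy) 29 = evalK (wy ++ wx) 29 := by
    have h2 := evalK_eq (wx ++ wy) b2
    rw [h, evalK_eq] at h2
    exact h2.symm
  have h2 := chk_ne
  rw [h1, h3, Nat.beq_refl, Nat.beq_refl] at h2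
  exact absurd h2 (by decide)

/-- **`OddC` for `Ru`.** -/
theorem oddC_of_equiv {G : Type*} [Group G] [Finite G] (e : G ≃* RuOrder.H) : Cfsg.Agent.H553.OddHall.OddC G := by
  have : Finite RuOrder.H := Finite.of_equiv G e.toEquiv
  have hN : Nat.card G = 145926144000 := (Nat.card_congr e.toEquiv).trans card_H
  refine oddC_of_chkE (c := 14) hN [(3, 3), (5, 3), (7, 1), (13, 1), (29, 1)] [(13, 3)] (by simp; norm_num)
    (by decide +kernel) ?_ (by decide +kernel)
  intro x hx
  rw [List.mem_singleton.1 hx]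
  refine pairN_of_nonab (s := 3) (t := 13) (a := 3) (by norm_num) (by norm_num) (by norm_num) (by norm_num)
    (by rw [hN]; norm_num) (by rw [hN]; norm_num) ?_ ?_
  · intro i h1 h2
    interval_cases i <;> norm_num
  · refine nonab_of_rel e (by norm_num) (by rw [hN]; norm_num) (g := wprod ml wy) (h := wprod ml wx)
      (c := wprod ml [8]) (cube chk_y) (cube chk_x) (cube chk_d) ?_ ?_ ?_ ne
    · have h := eq_of_eqK chk_dy
      rwa [wprod_append, wprod_append] at h
    · have h := eq_of_eqK chk_dx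
      rwa [wprod_append, wprod_append] at h
    · have h := eq_of_eqK chk_xy
      rwa [wprod_append, wprod_append, wprod_append] at h

end RuRow

end Cfsg.Agent.H555.Hall
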