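import Cfsg.Agent.H555.Hall.FiveGen
import Cfsg.Agent.H555.Hall.ThCent

/-!
# The Thompson group: 5 does not divide `|C(X333)|` (helper555)
-/

set_option autoImplicit false
set_option maxRecDepth 100000
set_option linter.unusedSectionVars false

namespace Cfsg.Agent.H555.Hall

open Subgroup Cfsg

/-- a normal subgroup `M` with `3 ∣ |M|`, `9 ∤ |Y|` -/
theorem mem_of_three {Y A : Type*} [Group Y] [Finite Y] [Group A] (ψ : Y →* A) (hker : IsPGroup 2 ψ.ker) {M : Subgroup Y}
    (hM : M.Normal) (h9 : ¬ 9 ∣ Nat.card Y) (h3 : 3 ∣ Nat.card M) {τ : A} (hτ : τ ^ 3 = 1) (hr : τ ∈ ψ.range) :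
    ∃ y ∈ M, ψ y = τ := by
  obtain ⟨y, hy⟩ := hr
  have h1 : y ^ 3 ∈ ψ.ker := by rw [MonoidHom.mem_ker, map_pow, hy, hτ]
  obtain ⟨k, hk⟩ := hker ⟨_, h1⟩
  have hk' : (y ^ 3) ^ 2 ^ k = 1 := congrArg Subtype.val hk
  have h4 : ∀ k : ℕ, τ ^ 4 ^ k = τ := by
    intro k
    induction k with
    | zero => rw [pow_zero, pow_one]
    | succ n ih => rw [pow_succ, pow_mul, ih, pow_succ, hτ, one_mul]
  refine ⟨y ^ 4 ^ k, ?_, by rw [map_pow, hy, h4]⟩
  have h5 : (y ^ 4 ^ k) ^ 3 = 1 := by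
    have h6 : (4 : ℕ) ^ k * 3 = 3 * 2 ^ k * 2 ^ k := by
      rw [show (4 : ℕ) = 2 * 2 by norm_num, mul_pow]; ring
    rw [← pow_mul, h6, pow_mul, pow_mul, hk', one_pow]
  rw [← QuotientGroup.eq_one_iff (N := M), ← orderOf_eq_one_iff]
  have h7 : orderOf ((y ^ 4 ^ k : Y) : Y ⧸ M) ∣ 3 := orderOf_dvd_of_pow_eq_one (by
    rw [← QuotientGroup.mk_pow, h5, QuotientGroup.mk_one])
  have h8 : orderOf ((y ^ 4 ^ k : Y) : Y ⧸ M) ∣ M.index := orderOf_dvd_natCard _
  rcases (Nat.dvd_prime Nat.prime_three).1 h7 with h | h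
  · exact h
  · exfalso
    apply h9
    rw [h] at h8
    rw [← M.card_mul_index]
    exact mul_dvd_mul h3 h8

/-- the centralizer of an element of a group of order `p ^ 3` -/
theorem sq_dvd_card_cent {P : Type*} [Group P] [Finite P] {p : ℕ} (hp : p.Prime) (hP : Nat.card P = p ^ 3) (x : P) :
    p ^ 2 ∣ Nat.card (centralizer ({x} : Set P)) := by
  have hfp : Fact p.Prime := ⟨hp⟩
  have hPp : IsPGroup p P := IsPGroup.of_card hP
  obtain ⟨j, hj⟩ := (hPp.to_subgroup (centralizer ({x} : Set P))).exists_card_eq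
  have hnt : Nontrivial P := by
    rw [← Finite.one_lt_card_iff_nontrivial, hP]
    exact Nat.one_lt_pow (by norm_num) hp.one_lt
  have hcn := hPp.center_nontrivial
  have hle : center P ≤ centralizer ({x} : Set P) := fun c hc => mem_centralizer_singleton_iff.2
    (mem_center_iff.1 hc x).symm
  have h1 : 1 < Nat.card (center P) := Finite.one_lt_card
  rw [hj]
  apply pow_dvd_pow
  by_contra hlt
  have h2 := Subgroup.card_le_of_le hle
  have h3 : j = 1 := by
    have h4 : j ≠ 0 := by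
      rintro rfl
      rw [hj, pow_zero] at h2
      omega
    omega
  subst h3
  have h4 : Nat.card (center P) = p := by
    have h5 := card_dvd_of_le hle
    rw [hj, pow_one] at h5
    rcases (Nat.dvd_prime hp).1 h5 with h | h
    · omega
    · exact h
  have h5 := Subgroup.eq_of_le_of_card_ge hle (by rw [hj, h4, pow_one])
  have h6 : x ∈ center P := by rw [h5]; exact mem_centralizer_singleton_iff.2 rfl
  have h7 : centralizer ({x} : Set P) = ⊤ := by
    rw [eq_top_iff]
    intro y _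
    exact mem_centralizer_singleton_iff.2 (mem_center_iff.1 h6 y)
  rw [h7, card_top, hP] at hj
  have h8 := Nat.pow_right_injective hp.two_le hj
  omega

end Cfsg.Agent.H555.Hall

namespace Cfsg.Agent.H555.Hall.ThC

open Subgroup Cfsg
open Cfsg.Agent.Th.Base Cfsg.Agent.Th.Word Cfsg.Agent.Th.RelWords Cfsg.Agent.Th.PermTab
  Cfsg.Agent.Th.KOracle Cfsg.Agent.Th.KPerm Cfsg.Agent.Th.NineAct Cfsg.Agent.Th.CStruct
  Cfsg.Agent.Th.COracleDef Cfsg.Agent.Th.COracleSound
open Cfsg.Agent.KFacts.Th.Mask Cfsg.Agent.KFacts.Th.Struct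
open Cfsg.Agent.CpAutTh.Data Cfsg.Agent.CpAutTh.Alt Cfsg.Agent.CpAutTh.RankOne Cfsg.Agent.CpAutTh.Local
  Cfsg.Agent.CpAutTh.Mid Cfsg.Agent.CpAutTh.ThreePerm Cfsg.Agent.CpAutTh.ThreeE
open Cfsg.Agent.BpTab Cfsg.Agent.BpSpor.ThCent

universe u

/-- permutations commuting with the 5-cycle -/
def p1 : Equiv.Perm (Fin 9) := Equiv.swap 0 1 * Equiv.swap 1 6
def p2 : Equiv.Perm (Fin 9) := Equiv.swap 0 1 * Equiv.swap 1 8
def v1 : Equiv.Perm (Fin 9) := Equiv.swap 0 1 * Equiv.swap 6 8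
def v2 : Equiv.Perm (Fin 9) := Equiv.swap 0 6 * Equiv.swap 1 8

theorem p1c : p1 * pm9 X5 = pm9 X5 * p1 := by decide +kernel
theorem p2c : p2 * pm9 X5 = pm9 X5 * p2 := by decide +kernel
theorem v1c : v1 * pm9 X5 = pm9 X5 * v1 := by decide +kernel
theorem v2c : v2 * pm9 X5 = pm9 X5 * v2 := by decide +kernel
theorem p12 : p1 * p2 * (p1 * p2) = 1 := by decide +kernel
theorem p12' : p1 * p2 ≠ 1 := by decide +kernel
theorem p1t : p1 ^ 3 = 1 := by decide +kernel
theorem p2t : p2 ^ 3 = 1 := by decide +kernel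
theorem p1e : Equiv.Perm.sign p1 = 1 := by decide +kernel
theorem p2e : Equiv.Perm.sign p2 = 1 := by decide +kernel
theorem v1e : Equiv.Perm.sign v1 = 1 := by decide +kernel
theorem v2e : Equiv.Perm.sign v2 = 1 := by decide +kernel
theorem v12 : v1 * v2 = v2 * v1 := by decide +kernel
theorem v1t : v1 * v1 = 1 := by decide +kernel
theorem v2t : v2 * v2 = 1 := by decide +kernel
theorem v1n : v1 ≠ 1 := by decide +kernel
theorem v2n : v2 ≠ 1 := by decide +kernel
theorem v12n : v1 ≠ v2 := by decide +kernel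

section

variable {G : Type u} [Group G] {γ : ℕ → G} (h : Ctx γ)
include h
variable {f : sub γ isC →* alternatingGroup (Fin 9)} (F : Epi γ f)
include F

theorem uniq5 : ∀ u : ↥(centralizer ({ev γ X5} : Set G)), orderOf u = 2 → u * sx h c5 = sx h c5 * u →
    u = sx h c5 := by
  rintro ⟨u, hu⟩ h1 h2
  apply Subtype.ext
  rw [Subgroup.orderOf_mk] at h1
  exact inv_five h F h1 (congrArg Subtype.val h2) (mem_centralizer_singleton_iff.1 hu)

/-- a permutation commuting with the 5-cycle -/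
theorem range5 {p : Equiv.Perm (Fin 9)} (he : Equiv.Perm.sign p = 1) (hc : p * pm9 X5 = pm9 X5 * p) :
    (⟨p, Equiv.Perm.mem_alternatingGroup.2 he⟩ : alternatingGroup (Fin 9)) ∈ (psi h c5 f).range := by
  refine le_range h F c5 Nat.prime_five (by norm_num) (o5 h F) ?_
  rw [mem_centralizer_singleton_iff]
  apply Subtype.ext
  change p * ((f ⟨ev γ X5, ev_mem_sub c5⟩ : alternatingGroup (Fin 9)) : Equiv.Perm (Fin 9)) =
    ((f ⟨ev γ X5, ev_mem_sub c5⟩ : alternatingGroup (Fin 9)) : Equiv.Perm (Fin 9)) * p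
  rw [F.word X5 c5]
  exact hc

/-- four divides the order of the range -/
theorem four_range5 : 4 ∣ Nat.card (psi h c5 f).range := by
  let w1 : alternatingGroup (Fin 9) := ⟨v1, Equiv.Perm.mem_alternatingGroup.2 v1e⟩
  let w2 : alternatingGroup (Fin 9) := ⟨v2, Equiv.Perm.mem_alternatingGroup.2 v2e⟩
  have hw1 : w1 ∈ (psi h c5 f).range := range5 h F v1e v1c
  have hw2 : w2 ∈ (psi h c5 f).range := range5 h F v2e v2c
  have hww : w1 * w2 = w2 * w1 := Subtype.ext v12
  have h11 : w1 * w1 = 1 := Subtype.ext v1t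
  have h22 : w2 * w2 = 1 := Subtype.ext v2t
  have h2F : Fact (Nat.Prime 2) := ⟨Nat.prime_two⟩
  have ho1 : orderOf w1 = 2 := orderOf_eq_prime (by rw [pow_two, h11]) (fun h1 => v1n (congrArg Subtype.val h1))
  have ho2 : orderOf w2 = 2 := orderOf_eq_prime (by rw [pow_two, h22]) (fun h1 => v2n (congrArg Subtype.val h1))
  have h3 : w2 ∉ zpowers w1 := by
    rintro ⟨n, hn⟩
    rcases Int.even_or_odd' n with ⟨m, rfl | rfl⟩
    · apply v2n
      have h4 : w2 = 1 := by
        rw [← hn]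
        change w1 ^ (2 * m) = 1
        rw [zpow_mul, show (w1 ^ (2 : ℤ)) = 1 from by rw [zpow_two, h11], one_zpow]
      exact congrArg Subtype.val h4
    · apply v12n
      have h4 : w1 = w2 := by
        rw [← hn]
        change w1 = w1 ^ (2 * m + 1)
        rw [zpow_add, zpow_mul, show (w1 ^ (2 : ℤ)) = 1 from by rw [zpow_two, h11], one_zpow, one_mul, zpow_one]
      exact congrArg Subtype.val h4
  have hn : zpowers w2 ≤ normalizer (zpowers w1 : Set (alternatingGroup (Fin 9))) := by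
    rw [zpowers_le, mem_normalizer_iff]
    intro y
    have h3 : ∀ y ∈ zpowers w1, w2 * y * w2⁻¹ = y := by
      intro y hy
      obtain ⟨n, rfl⟩ := hy
      have h4 : Commute w2 (w1 ^ n) := (show Commute w2 w1 from hww.symm).zpow_right n
      change w2 * w1 ^ n * w2⁻¹ = w1 ^ n
      rw [h4.eq, mul_inv_cancel_right]
    constructor
    · intro hy
      rwa [h3 y hy]
    · intro hy
      have h4 := h3 _ hy
      have h5 : y = w2⁻¹ * (w2 * y * w2⁻¹) * w2 := by group
      have h6 : w2 * (w2 * y * w2⁻¹) * w2⁻¹ = w2 * y * w2⁻¹ := h4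
      have h7 : w2 * y * w2⁻¹ = y := mul_left_cancel (a := w2) (mul_right_cancel (b := w2⁻¹) h6)
      rwa [h7] at hy
  have h5 := card_dvd_of_le (sup_le (zpowers_le.2 hw1) (zpowers_le.2 hw2))
  have h6 : IsPGroup 2 ↥(zpowers w2 ⊔ zpowers w1) := IsPGroup.to_sup_of_normal_right'
    (IsPGroup.of_card (n := 1) (by rw [Nat.card_zpowers, ho2, pow_one]))
    (IsPGroup.of_card (n := 1) (by rw [Nat.card_zpowers, ho1, pow_one])) hn
  rw [sup_comm] at h6
  obtain ⟨n, hn⟩ := h6.exists_card_eq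
  refine dvd_trans ?_ h5
  rw [hn, show 4 = 2 ^ 2 by norm_num]
  apply pow_dvd_pow
  by_contra hlt
  have h7 : zpowers w1 = zpowers w1 ⊔ zpowers w2 := by
    apply Subgroup.eq_of_le_of_card_ge le_sup_left
    rw [hn, Nat.card_zpowers, ho1]
    calc 2 ^ n ≤ 2 ^ 1 := Nat.pow_le_pow_right (by norm_num) (by omega)
      _ = 2 := by norm_num
  exact h3 (h7 ▸ mem_sup_right (mem_zpowers w2))

/-- **The structure of `C(X5)`.** -/
theorem cent5 (hT5 : 5 ^ 2 ∣ Nat.card ↥(centralizer ({ev γ X5} : Set G))) :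
    ∃ T : Subgroup ↥(centralizer ({ev γ X5} : Set G)), T.Normal ∧ Nat.card T = 5 ^ 3 ∧ xx γ X5 ∈ T := by
  have := h.fin
  have h5F : Fact (Nat.Prime 5) := ⟨Nat.prime_five⟩
  have hs := order_sx h c5
  have huniq := uniq5 h F
  obtain ⟨N0, hN0, hodd0, hsup0⟩ := exists_odd_iso hs (iso_of_unique hs huniq)
  set z := sx h c5 with hz
  have hZ : zpowers (xx γ X5) ≤ center ↥(centralizer ({ev γ X5} : Set G)) := zpowers_le.2 xx_center
  have hox : orderOf (xx γ X5) = 5 := by
    rw [← Subgroup.orderOf_coe]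
    have h1 := o5 h F
    rw [Subgroup.orderOf_mk] at h1
    exact h1
  have hZc : Nat.card (zpowers (xx γ X5)) = 5 := by rw [Nat.card_zpowers, hox]
  have hZn : (zpowers (xx γ X5)).Normal := ⟨fun x hx g => by
    have h2 : g * x * g⁻¹ = x := by rw [mem_center_iff.1 (hZ hx) g, mul_inv_cancel_right]
    rwa [h2]⟩
  set N := N0 ⊔ zpowers (xx γ X5) with hNdef
  have hN : N.Normal := inferInstance
  have hodd : Odd (Nat.card N) := Odd.of_dvd_nat (hodd0.mul (by rw [hZc]; decide))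
    (Lib.Cores.card_sup_dvd N0 (zpowers (xx γ X5)) hN0)
  have hsup : N ⊔ centralizer ({z} : Set ↥(centralizer ({ev γ X5} : Set G))) = ⊤ := by
    rw [eq_top_iff, ← hsup0]
    exact sup_le_sup_right le_sup_left _
  have hZN : zpowers (xx γ X5) ≤ N := le_sup_right
  obtain ⟨n, hn⟩ := card_dvd h F c5 card5
  -- the fixed points of `z` on `N`
  have hfix : ∀ m ∈ N, m * z = z * m → m ∈ zpowers (xx γ X5) := by
    set Y := centralizer ({z} : Set ↥(centralizer ({ev γ X5} : Set G))) with hY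
    set M := N.subgroupOf Y with hM
    have hMn : M.Normal := inferInstance
    have hZY : zpowers (xx γ X5) ≤ Y := fun x hx => mem_centralizer_singleton_iff.2
      (mem_center_iff.1 (hZ hx) z).symm
    have hMN : Nat.card M ∣ Nat.card N := by
      have h1 : Nat.card (M.map Y.subtype) = Nat.card M := card_map_of_injective (subtype_injective _)
      rw [← h1]
      apply card_dvd_of_le
      rintro _ ⟨m, hm, rfl⟩
      exact hm
    have hMo : Odd (Nat.card M) := Odd.of_dvd_nat hodd hMN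
    have h9 : ¬ 9 ∣ Nat.card Y := by
      intro h9
      have h1 := h9.trans hn
      have h2 : Nat.Coprime 9 (2 ^ n) := Nat.Coprime.pow_right _ (by norm_num)
      have h3 := h2.dvd_of_dvd_mul_left h1
      norm_num at h3
    have h3M : ¬ 3 ∣ Nat.card M := by
      intro h3
      obtain ⟨y1, hy1, hy1'⟩ := mem_of_three (psi h c5 f) (ker_two_psi h F c5) hMn h9 h3
        (τ := ⟨p1, Equiv.Perm.mem_alternatingGroup.2 p1e⟩) (Subtype.ext p1t) (range5 h F p1e p1c)
      obtain ⟨y2, hy2, hy2'⟩ := mem_of_three (psi h c5 f) (ker_two_psi h F c5) hMn h9 h3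
        (τ := ⟨p2, Equiv.Perm.mem_alternatingGroup.2 p2e⟩) (Subtype.ext p2t) (range5 h F p2e p2c)
      have h4 : psi h c5 f (y1 * y2) ≠ 1 := by
        rw [map_mul, hy1', hy2']
        exact fun h5 => p12' (congrArg Subtype.val h5)
      have h5 : psi h c5 f (y1 * y2) ^ 2 = 1 := by
        rw [map_mul, hy1', hy2', pow_two]
        exact Subtype.ext p12
      have h6 : orderOf (psi h c5 f (y1 * y2)) = 2 := by
        have : Fact (Nat.Prime 2) := ⟨Nat.prime_two⟩
        exact orderOf_eq_prime h5 h4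
      have h7 : 2 ∣ orderOf (y1 * y2) := by rw [← h6]; exact orderOf_map_dvd _ _
      have h8 : orderOf (y1 * y2) ∣ Nat.card M := by
        rw [← Subgroup.orderOf_mk (y1 * y2) (mul_mem hy1 hy2)]
        exact orderOf_dvd_natCard _
      exact (Nat.not_even_iff_odd.2 hMo) (even_iff_two_dvd.2 (h7.trans h8))
    have hM5 : Nat.card M ∣ 5 := by
      have h1 : Nat.card M ∣ 2 ^ n * 120 := (card_subgroup_dvd_card M).trans hn
      have h2 : Nat.Coprime (Nat.card M) (2 ^ (n + 3)) := Nat.Coprime.pow_right _ (Nat.coprime_two_right.2 hMo)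
      have h3 : 2 ^ n * 120 = 2 ^ (n + 3) * (3 * 5) := by rw [pow_add]; ring
      rw [h3] at h1
      have h4 := h2.dvd_of_dvd_mul_left h1
      exact (Nat.Coprime.symm ((Nat.Prime.coprime_iff_not_dvd Nat.prime_three).2 h3M)).dvd_of_dvd_mul_left h4
    have hZM : (zpowers (xx γ X5)).subgroupOf Y ≤ M := fun x hx => hZN hx
    have hZc' : Nat.card ((zpowers (xx γ X5)).subgroupOf Y) = 5 := by
      rw [← hZc]
      exact Nat.card_congr (subgroupOfEquivOfLe hZY).toEquiv
    have hMZ := Subgroup.eq_of_le_of_card_ge hZM (by rw [hZc']; exact Nat.le_of_dvd (by norm_num) hM5)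
    intro m hm hmz
    have h1 : (⟨m, mem_centralizer_singleton_iff.2 hmz⟩ : ↥Y) ∈ M := hm
    rw [← hMZ] at h1
    exact h1
  obtain ⟨T, hTn, hTN, hTp, hTi⟩ := ns_of_central hs hN hodd hsup hZN hZ hfix Nat.prime_five (by rw [hZc]) (by
    intro h25
    have h1 := h25.trans hn
    have h2 : Nat.Coprime (5 ^ 2) (2 ^ n) := Nat.Coprime.pow_left _ (Nat.Coprime.pow_right _ (by norm_num))
    have h3 := h2.dvd_of_dvd_mul_left h1
    norm_num at h3)
  have hxT : xx γ X5 ∈ T := by
    rw [← QuotientGroup.eq_one_iff (N := T), ← orderOf_eq_one_iff]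
    have h7 : orderOf ((xx γ X5 : ↥(centralizer ({ev γ X5} : Set G))) : _ ⧸ T) ∣ 5 := orderOf_dvd_of_pow_eq_one (by
      rw [← QuotientGroup.mk_pow, ← hox, pow_orderOf_eq_one, QuotientGroup.mk_one])
    have h8 : orderOf ((xx γ X5 : ↥(centralizer ({ev γ X5} : Set G))) : _ ⧸ T) ∣ T.index := orderOf_dvd_natCard _
    rcases (Nat.dvd_prime Nat.prime_five).1 h7 with h | h
    · exact h
    · exact absurd (h ▸ h8) hTi
  refine ⟨T, hTn, ?_, hxT⟩
  obtain ⟨k, hk⟩ := hTp.exists_card_eq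
  have hk2 : 2 ≤ k := by
    have h1 := hT5
    rw [← T.card_mul_index] at h1
    have h2 : Nat.Coprime (5 ^ 2) T.index := Nat.Coprime.pow_left _ ((Nat.Prime.coprime_iff_not_dvd Nat.prime_five).2 hTi)
    have h3 := h2.dvd_of_dvd_mul_right h1
    rw [hk] at h3
    exact (Nat.pow_dvd_pow_iff_le_right (by norm_num)).1 h3
  have hk4 : k < 4 := by
    by_contra hlt
    have h1 : 5 ^ 4 ∣ Nat.card T := by rw [hk]; exact pow_dvd_pow 5 (not_lt.1 hlt)
    have h2 := (h1.trans (card_subgroup_dvd_card T)).trans (card_subgroup_dvd_card (centralizer ({ev γ X5} : Set G)))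
    rw [h.card] at h2
    norm_num at h2
  rw [hk]
  congr 1
  by_contra hk3
  have hk' : k = 2 := by omega
  subst hk'
  -- the quaternion group
  have h8 : 8 ∣ Nat.card ↥(centralizer ({ev γ X5} : Set G)) := by
    refine dvd_trans ?_ (card_subgroup_dvd_card (centralizer ({z} : Set ↥(centralizer ({ev γ X5} : Set G)))))
    rw [← card_mul_index (psi h c5 f).ker, index_ker, show 8 = 2 * 4 by norm_num]
    refine mul_dvd_mul ?_ (four_range5 h F)
    have h1 : (⟨z, mem_centralizer_singleton_iff.2 rfl⟩ :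
        ↥(centralizer ({z} : Set ↥(centralizer ({ev γ X5} : Set G))))) ∈ (psi h c5 f).ker := by
      rw [mem_ker_psi h F]
      exact h.a_mem
    have h2 : orderOf (⟨_, h1⟩ : ↥(psi h c5 f).ker) = 2 := by
      rw [Subgroup.orderOf_mk, Subgroup.orderOf_mk, hs]
    rw [← h2]
    exact orderOf_dvd_natCard _
  obtain ⟨Q, hQ, hQ8, hQz⟩ := exists_quat hs huniq h8
  have h2F : Fact (Nat.Prime 2) := ⟨Nat.prime_two⟩
  obtain ⟨y, hyT, hyZ, hd⟩ := H171.Odd.exists_small_orbit (s := 2) (w := 2) (S := Q) (R := T)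
    (R1 := zpowers (xx γ X5)) hQ (by rw [normalizer_eq_top_iff.2 hTn]; exact le_top)
    (by rw [normalizer_eq_top_iff.2 hZn]; exact le_top) (zpowers_le.2 hxT) (by rw [hk, hZc]; norm_num)
  apply hyZ
  apply hfix y (hTN hyT)
  have h2 : Q ⊓ centralizer ({y} : Set ↥(centralizer ({ev γ X5} : Set G))) ≠ ⊥ := by
    intro h3
    rw [h3, card_bot, one_mul] at hd
    have h4 := Nat.le_of_dvd (by norm_num) (hQ8.trans hd)
    norm_num at h4
  obtain ⟨⟨g, hg⟩, hg1⟩ := Subgroup.ne_bot_iff_exists_ne_one.1 h2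
  have hg1 : g ≠ 1 := fun h3 => hg1 (Subtype.ext h3)
  have h3 : zpowers g ≤ centralizer ({y} : Set ↥(centralizer ({ev γ X5} : Set G))) := zpowers_le.2 hg.2
  exact (mem_centralizer_singleton_iff.1 (h3 (hQz g hg.1 hg1))).symm

/-- **5 does not divide `|C(X333)|`.** -/
theorem not_dvd_five (hna : ∀ T : Subgroup G, Nat.card T = 5 ^ 3 → ∃ a ∈ T, ∃ b ∈ T, a * b ≠ b * a) :
    ¬ 5 ∣ Nat.card ↥(centralizer ({ev γ X333} : Set G)) := by
  have := h.fin
  have h5F : Fact (Nat.Prime 5) := ⟨Nat.prime_five⟩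
  have ho5 : orderOf (ev γ X5) = 5 := by
    have h1 := o5 h F
    rwa [Subgroup.orderOf_mk] at h1
  have ho333 : orderOf (ev γ X333) = 3 := by
    have h1 := o333 h F
    rwa [Subgroup.orderOf_mk] at h1
  -- `25 ∣ |C(X5)|`
  have h25 : 5 ^ 2 ∣ Nat.card ↥(centralizer ({ev γ X5} : Set G)) := by
    have h1 : IsPGroup 5 (zpowers (ev γ X5)) := IsPGroup.of_card (n := 1) (by rw [Nat.card_zpowers, ho5, pow_one])
    obtain ⟨P, hP⟩ := h1.exists_le_sylow
    have hPc : Nat.card (P : Subgroup G) = 5 ^ 3 := by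
      obtain ⟨n, hn⟩ := P.isPGroup'.exists_card_eq
      have h2 : 5 ^ 3 ∣ Nat.card (P : Subgroup G) := P.pow_dvd_card_of_pow_dvd_card (by rw [h.card]; norm_num)
      rw [hn] at h2 ⊢
      have h3 : 3 ≤ n := (Nat.pow_dvd_pow_iff_le_right (by norm_num)).1 h2
      have h4 : n < 4 := by
        by_contra hlt
        have h5 : 5 ^ 4 ∣ Nat.card (P : Subgroup G) := by rw [hn]; exact pow_dvd_pow 5 (not_lt.1 hlt)
        have h6 := h5.trans (card_subgroup_dvd_card _)
        rw [h.card] at h6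
        norm_num at h6
      congr 1
      omega
    have h2 := sq_dvd_card_cent Nat.prime_five hPc ⟨ev γ X5, hP (mem_zpowers _)⟩
    refine h2.trans ?_
    let j : ↥(centralizer ({(⟨ev γ X5, hP (mem_zpowers _)⟩ : ↥(P : Subgroup G))} : Set ↥(P : Subgroup G))) →*
        ↥(centralizer ({ev γ X5} : Set G)) :=
      { toFun := fun y => ⟨y.1, mem_centralizer_singleton_iff.2
          (congrArg Subtype.val (mem_centralizer_singleton_iff.1 y.2))⟩
        map_one' := rfl
        map_mul' := fun a b => rfl }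
    refine card_dvd_of_injective j (fun a b hab => ?_)
    have hab' : ((j a : ↥(centralizer ({ev γ X5} : Set G))) : G) = j b := by rw [hab]
    exact Subtype.ext (Subtype.ext hab')
  obtain ⟨T, hTn, hTc, hxT⟩ := cent5 h F h25
  set T2 : Subgroup G := T.map (centralizer ({ev γ X5} : Set G)).subtype with hT2
  have hT2c : Nat.card T2 = 5 ^ 3 := by rw [hT2, card_map_of_injective (subtype_injective _), hTc]
  obtain ⟨a, ha, b, hb, hab⟩ := hna T2 hT2c
  refine not_dvd_of_extra (X := ev γ X5) (s := 3) Nat.prime_five Nat.prime_three ho333 (by rw [h.card]; norm_num) hT2c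
    ⟨_, hxT, rfl⟩ (map_subtype_le _) ?_ ha hb hab (by norm_num) (sq_dvd333 h F Nat.prime_five le_rfl (by norm_num))
    (not_cube333 h F)
  rintro c hc _ ⟨y, hy, rfl⟩
  exact ⟨⟨c, hc⟩ * y * ⟨c, hc⟩⁻¹, hTn.conj_mem y hy _, rfl⟩

end

end Cfsg.Agent.H555.Hall.ThC
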