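import Cfsg.Agent.H555.Hall.SevenGen
import Cfsg.Agent.H555.Hall.ThFive

/-!
# The Thompson group: 7 does not divide `|C(X333)|` (helper555)
-/

set_option autoImplicit false
set_option maxRecDepth 100000
set_option linter.unusedSectionVars false

namespace Cfsg.Agent.H555.Hall.ThC

open Subgroup Cfsg
open Cfsg.Agent.Th.Base Cfsg.Agent.Th.Word Cfsg.Agent.Th.RelWords Cfsg.Agent.Th.PermTab
  Cfsg.Agent.Th.KOracle Cfsg.Agent.Th.KPerm Cfsg.Agent.Th.NineAct Cfsg.Agent.Th.CStruct
  Cfsg.Agent.Th.COracleDef Cfsg.Agent.Th.COracleSound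
open Cfsg.Agent.KFacts.Th.Mask Cfsg.Agent.KFacts.Th.Struct
open Cfsg.Agent.CpAutTh.Data Cfsg.Agent.CpAutTh.Alt Cfsg.Agent.CpAutTh.RankOne Cfsg.Agent.CpAutTh.Local
  Cfsg.Agent.CpAutTh.Mid Cfsg.Agent.CpAutTh.ThreePerm Cfsg.Agent.CpAutTh.ThreeE
open Cfsg.Agent.BpTab Cfsg.Agent.BpSpor.ThCent

universe u

section

variable {G : Type u} [Group G] {γ : ℕ → G} (h : Ctx γ)
include h

/-- squares in `Q0` -/
theorem sq_Q0 {q : G} (hq : q ∈ Q0 γ) : q * q = 1 ∨ q * q = γ 1 := by
  obtain ⟨m, hm⟩ := exists_mask h.data hq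
  have h1 := mul h.data hq hm hm
  rw [Nat.xor_self] at h1
  exact eq_of_zero h.data h.cardQ (mul_mem hq hq) h1

theorem T_two : IsPGroup 2 ↥(CpAutTh.Seven.T γ) := by
  have h1 : IsPGroup 2 ↥(Q0 γ) := IsPGroup.of_card (n := 9) (by rw [h.cardQ]; norm_num)
  exact h1.to_le (CpAutTh.Seven.T_le h)

/-- the generators of `T` -/
theorem cc_facts (i : Fin 9) : orderOf (cc γ i) = 2 ∧ cc γ i ≠ γ 1 ∧ cc γ i * γ 1 = γ 1 * cc γ i := by
  have h2F : Fact (Nat.Prime 2) := ⟨Nat.prime_two⟩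
  refine ⟨orderOf_eq_prime (by rw [pow_two]; exact h.data.cc i) ?_, ?_, (h.Q_comm (h.cc_mem i)).symm⟩
  · intro h1
    have h2 := mask_c h.data i
    rw [h1] at h2
    have h3 := unique h.data h2 (mask_one h.data)
    revert h3
    clear h1 h2
    revert i
    decide +kernel
  · intro h1
    have h2 := mask_c h.data i
    rw [h1] at h2
    have h3 := unique h.data h2 (mask_a h.data)
    revert h3
    clear h1 h2
    revert i
    decide +kernel

variable {f : sub γ isC →* alternatingGroup (Fin 9)} (F : Epi γ f)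
include F
variable (hone : ∀ u : G, orderOf u = 2 → ∃ g : G, g * u * g⁻¹ = γ 1)
include hone

theorem conj7 : ∀ u : ↥(centralizer ({ev γ X7} : Set G)), orderOf u = 2 →
    ∃ g : ↥(centralizer ({ev γ X7} : Set G)), g * sx h c7 * g⁻¹ = u := by
  rintro ⟨u, hu⟩ hou
  rw [Subgroup.orderOf_mk] at hou
  have hox : orderOf (ev γ X7) = 7 := by
    have := o7 h F
    rwa [Subgroup.orderOf_mk] at this
  obtain ⟨g, h1, h2⟩ := exists_pair h hone hox hou (mem_centralizer_singleton_iff.1 hu)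
    (P := fun z => z = ev γ X7) (fun y hy => by
      obtain ⟨c, hc⟩ := exists_rep_seven h F hy
      exact ⟨c, congrArg Subtype.val hc⟩)
  have hg : g ∈ centralizer ({ev γ X7} : Set G) := by
    rw [mem_centralizer_singleton_iff]
    exact mul_inv_eq_iff_eq_mul.1 h2
  refine ⟨⟨g⁻¹, inv_mem hg⟩, Subtype.ext ?_⟩
  change g⁻¹ * γ 1 * g⁻¹⁻¹ = u
  rw [← h1]
  group

variable (h348 : ∀ (K : Type u) [Group K] [Finite K] [IsSimpleGroup K], (∃ a b : K, a * b ≠ b * a) →
    (∀ t : K, orderOf t = 2 → IsPGroup 2 (Subgroup.centralizer ({t} : Set K))) →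
    (∃ (F : Type) (_ : Field F) (_ : Fintype F),
        (Fintype.card F = 9 ∨ (∃ n : ℕ, Fintype.card F = 2 ^ n) ∨
          ((Fintype.card F).Prime ∧ ∃ k : ℕ, Fintype.card F = 2 ^ k + 1 ∨ Fintype.card F + 1 = 2 ^ k)) ∧
        Nonempty (K ≃* Matrix.ProjectiveSpecialLinearGroup (Fin 2) F)) ∨
    (∃ (F : Type) (_ : Field F) (_ : Fintype F), Fintype.card F = 4 ∧
        Nonempty (K ≃* Matrix.ProjectiveSpecialLinearGroup (Fin 3) F)) ∨
    Cfsg.IsSuzuki K)
include h348

/-- the quotient is simple of order 168 -/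
theorem quot7 (h49 : 7 ^ 2 ∣ Nat.card ↥(centralizer ({ev γ X7} : Set G))) [(zpowers (xx γ X7)).Normal] :
    IsSimpleGroup (↥(centralizer ({ev γ X7} : Set G)) ⧸ zpowers (xx γ X7)) ∧
      Nat.card (↥(centralizer ({ev γ X7} : Set G)) ⧸ zpowers (xx γ X7)) = 168 := by
  have hfin := h.fin
  have h2F : Fact (Nat.Prime 2) := ⟨Nat.prime_two⟩
  have h7F : Fact (Nat.Prime 7) := ⟨by norm_num⟩
  set W := zpowers (xx γ X7) with hW
  have hox : orderOf (xx γ X7) = 7 := by
    rw [← Subgroup.orderOf_coe]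
    have h1 := o7 h F
    rw [Subgroup.orderOf_mk] at h1
    exact h1
  have hWc : Nat.card W = 7 := by rw [hW, Nat.card_zpowers, hox]
  have hWodd : Odd (Nat.card W) := by rw [hWc]; decide
  have hs0 := order_sx h c7
  have hconj := conj7 h F hone
  set s0 := sx h c7 with hs0d
  let π := QuotientGroup.mk' W
  have hW2 : (Nat.card ↥W).Coprime 2 := Nat.coprime_two_right.2 hWodd
  have hc := LThree.Red.centralizer_mk Nat.prime_two W hW2 hs0
  have hker : ∀ y : ↥(centralizer ({ev γ X7} : Set G)), IsPGroup 2 (zpowers y) → π y = 1 → y = 1 := by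
    intro y hy hy1
    exact eq_one_of_odd hWodd hy ((QuotientGroup.eq_one_iff y).1 hy1) (mem_zpowers y)
  have hs0o : orderOf (π s0) = 2 := by
    refine orderOf_eq_prime ?_ ?_
    · rw [← map_pow, ← hs0, pow_orderOf_eq_one, map_one]
    · intro h1
      have h2 := hker s0 (IsPGroup.of_card (n := 1) (by rw [Nat.card_zpowers, hs0, pow_one])) h1
      rw [h2, orderOf_one] at hs0
      omega
  have hTH : CpAutTh.Seven.T γ ≤ centralizer ({ev γ X7} : Set G) := fun q hq =>
    mem_centralizer_singleton_iff.2 (CpAutTh.Seven.T_comm h hq)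
  -- centralizer
  have hcent : centralizer ({π s0} : Set (↥(centralizer ({ev γ X7} : Set G)) ⧸ W)) =
      ((CpAutTh.Seven.T γ).subgroupOf (centralizer ({ev γ X7} : Set G))).map π := by
    change centralizer ({QuotientGroup.mk' W s0} : Set _) = _
    rw [hc]
    apply le_antisymm
    · rintro _ ⟨y, hy, rfl⟩
      obtain ⟨i, q, hq, hyq⟩ := CpAutTh.Seven.struct h F (congrArg Subtype.val (mem_centralizer_singleton_iff.1 hy))
        (mem_centralizer_singleton_iff.1 y.2)
      refine ⟨⟨q, hTH hq⟩, hq, ?_⟩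
      have h1 : y = xx γ X7 ^ i * ⟨q, hTH hq⟩ := Subtype.ext hyq
      rw [h1, map_mul]
      have h2 : π (xx γ X7 ^ i) = 1 := (QuotientGroup.eq_one_iff _).2 (pow_mem (mem_zpowers _) i)
      change π ⟨q, hTH hq⟩ = π (xx γ X7 ^ i) * π ⟨q, hTH hq⟩
      rw [h2, one_mul]
    · apply Subgroup.map_mono
      rintro ⟨q, hqH⟩ hq
      rw [mem_centralizer_singleton_iff]
      exact Subtype.ext (CpAutTh.Seven.T_a h hq)
  have hT' : IsPGroup 2 ↥(((CpAutTh.Seven.T γ).subgroupOf (centralizer ({ev γ X7} : Set G))).map π) :=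
    ((T_two h).comap_of_injective (centralizer ({ev γ X7} : Set G)).subtype (subtype_injective _)).map π
  have hC : IsPGroup 2 (centralizer ({π s0} : Set (↥(centralizer ({ev γ X7} : Set G)) ⧸ W))) := by
    rw [hcent]; exact hT'
  have hconj' : ∀ u : ↥(centralizer ({ev γ X7} : Set G)) ⧸ W, orderOf u = 2 → ∃ g, g * π s0 * g⁻¹ = u := by
    intro u hu
    obtain ⟨s, hs, rfl⟩ := LThree.Red.exists_involution_lift W hWodd hu
    obtain ⟨g, rfl⟩ := hconj s hs
    exact ⟨π g, by rw [← map_inv, ← map_mul, ← map_mul]⟩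
  have hcm : ∀ i : Fin 9, (i = 0 ∨ i = 1) → cc γ i ∈ CpAutTh.Seven.T γ := by
    rintro i (rfl | rfl)
    · exact subset_closure (by simp)
    · exact subset_closure (by simp)
  have hc0 := hcm 0 (Or.inl rfl)
  have hc1 := hcm 1 (Or.inr rfl)
  let d0 : ↥(centralizer ({ev γ X7} : Set G)) := ⟨cc γ 0, hTH hc0⟩
  let d1 : ↥(centralizer ({ev γ X7} : Set G)) := ⟨cc γ 1, hTH hc1⟩
  have hww : d0 * d1 * (d0 * d1) = s0 := Subtype.ext (CpAutTh.Seven.w01 h)
  have hd0 : orderOf d0 = 2 := by rw [Subgroup.orderOf_mk, (cc_facts h 0).1]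
  have hd1 : orderOf d1 = 2 := by rw [Subgroup.orderOf_mk, (cc_facts h 1).1]
  have h8 : Nat.card (centralizer ({π s0} : Set (↥(centralizer ({ev γ X7} : Set G)) ⧸ W))) ≤ 8 := by
    rw [hcent]
    have h1 : Nat.card ↥(((CpAutTh.Seven.T γ).subgroupOf (centralizer ({ev γ X7} : Set G))).map π) ≤
        Nat.card ↥((CpAutTh.Seven.T γ).subgroupOf (centralizer ({ev γ X7} : Set G))) :=
      Nat.card_le_card_of_surjective _ (π.subgroupMap_surjective _)
    have h2 : Nat.card ↥((CpAutTh.Seven.T γ).subgroupOf (centralizer ({ev γ X7} : Set G))) =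
        Nat.card ↥(CpAutTh.Seven.T γ) := Nat.card_congr (subgroupOfEquivOfLe hTH).toEquiv
    rw [h2] at h1
    exact h1.trans (CpAutTh.Seven.card_T h)
  have hpi : ∀ {x y : ↥(centralizer ({ev γ X7} : Set G))}, x = y → π x = π y := fun h => by rw [h]
  have hsimp : IsSimpleGroup (↥(centralizer ({ev γ X7} : Set G)) ⧸ W) := by
    refine simple_of_cent hs0o hconj' hC (A := {π s0, π d0, π d1}) ?_ ?_ ?_ (w := π (d0 * d1)) ?_ ?_ (c := π d0) ?_ ?_ ?_
    · rintro a (rfl | rfl | rfl)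
      · rw [← map_mul, ← pow_two, ← hs0, pow_orderOf_eq_one, map_one]
      · rw [← map_mul, ← pow_two, ← hd0, pow_orderOf_eq_one, map_one]
      · rw [← map_mul, ← pow_two, ← hd1, pow_orderOf_eq_one, map_one]
    · rw [hcent]
      have h1 : (CpAutTh.Seven.T γ).subgroupOf (centralizer ({ev γ X7} : Set G)) ≤ closure {s0, d0, d1} := by
        rintro ⟨q, hqH⟩ hq
        have h2 : CpAutTh.Seven.T γ ≤ (closure {s0, d0, d1}).map (centralizer ({ev γ X7} : Set G)).subtype := by
          change Subgroup.closure _ ≤ _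
          rw [Subgroup.closure_le]
          rintro y (rfl | rfl | rfl)
          · exact ⟨s0, subset_closure (by simp), rfl⟩
          · exact ⟨d0, subset_closure (by simp), rfl⟩
          · exact ⟨d1, subset_closure (by simp), rfl⟩
        obtain ⟨r, hr, hrq⟩ := h2 hq
        have h3 : r = ⟨q, hqH⟩ := Subtype.ext hrq
        rw [← h3]
        exact hr
      refine (Subgroup.map_mono h1).trans ?_
      rw [MonoidHom.map_closure, Set.image_insert_eq, Set.image_insert_eq, Set.image_singleton]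
    · intro y hy
      rw [hcent] at hy
      obtain ⟨⟨q, hqH⟩, hq, rfl⟩ := hy
      rw [← map_mul]
      rcases sq_Q0 h (CpAutTh.Seven.T_le h hq) with h1 | h1
      · left
        rw [hpi (show (⟨q, hqH⟩ : ↥(centralizer ({ev γ X7} : Set G))) * ⟨q, hqH⟩ = 1 from Subtype.ext h1), map_one]
      · right
        exact hpi (Subtype.ext h1)
    · rw [hcent]
      exact ⟨d0 * d1, mul_mem (show d0 ∈ (CpAutTh.Seven.T γ).subgroupOf _ from hc0) (show d1 ∈ (CpAutTh.Seven.T γ).subgroupOf _ from hc1), rfl⟩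
    · rw [← map_mul, hww]
    · rw [hcent]
      exact ⟨d0, hc0, rfl⟩
    · refine orderOf_eq_prime ?_ ?_
      · rw [← map_pow, ← hd0, pow_orderOf_eq_one, map_one]
      · intro h1
        have h2 := hker d0 (IsPGroup.of_card (n := 1) (by rw [Nat.card_zpowers, hd0, pow_one])) h1
        rw [h2, orderOf_one] at hd0
        omega
    · intro h1
      have h2 : π (d0 * s0) = 1 := by rw [map_mul, h1, ← map_mul, ← pow_two, ← hs0, pow_orderOf_eq_one, map_one]
      have h3 : orderOf (d0 * s0) ∣ 2 := by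
        apply orderOf_dvd_of_pow_eq_one
        apply Subtype.ext
        change (cc γ 0 * γ 1) ^ 2 = 1
        have h4 := h.aa
        have h5 := (cc_facts h 0).2.2
        have h6 := h.data.cc 0
        calc (cc γ 0 * γ 1) ^ 2 = cc γ 0 * (γ 1 * cc γ 0) * γ 1 := by rw [pow_two]; group
          _ = (cc γ 0 * cc γ 0) * (γ 1 * γ 1) := by rw [← h5]; group
          _ = 1 := by rw [h4, h6, one_mul]
      have h4 : IsPGroup 2 (zpowers (d0 * s0)) := by
        rw [IsPGroup.iff_card]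
        rcases (Nat.dvd_prime Nat.prime_two).1 h3 with h5 | h5
        · exact ⟨0, by rw [Nat.card_zpowers, h5, pow_zero]⟩
        · exact ⟨1, by rw [Nat.card_zpowers, h5, pow_one]⟩
      have h5 := hker _ h4 h2
      apply (cc_facts h 0).2.1
      have h6 : cc γ 0 * γ 1 = 1 := congrArg Subtype.val h5
      calc cc γ 0 = cc γ 0 * γ 1 * γ 1 := by rw [mul_assoc, h.aa, mul_one]
        _ = γ 1 := by rw [h6, one_mul]
  refine ⟨hsimp, card_of_cent h348 hs0o hconj' hC h8 hsimp ?_ (w := π (d0 * d1)) (by rw [← map_mul, hww]) ?_⟩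
  · refine ⟨π d0, π d1, fun h1 => ?_⟩
    rw [← map_mul, ← map_mul] at h1
    have h2 : π (d0 * d1 * (d0 * d1)) = 1 := by
      rw [map_mul π (d0 * d1) (d0 * d1)]
      nth_rewrite 2 [h1]
      rw [← map_mul, show d0 * d1 * (d1 * d0) = d0 * (d1 * d1) * d0 by group, ← pow_two d1, ← hd1, pow_orderOf_eq_one,
        mul_one, ← pow_two, ← hd0, pow_orderOf_eq_one, map_one]
    rw [hww] at h2
    rw [h2, orderOf_one] at hs0o
    omega
  · have h1 : Nat.card W * W.index = Nat.card ↥(centralizer ({ev γ X7} : Set G)) := card_mul_index W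
    rw [← h1, hWc, pow_two] at h49
    exact (Nat.mul_dvd_mul_iff_left (by norm_num)).1 h49

/-- **7 does not divide `|C(X333)|`.** -/
theorem not_dvd_seven : ¬ 7 ∣ Nat.card ↥(centralizer ({ev γ X333} : Set G)) := by
  intro h7
  have hfin := h.fin
  have hp7 : Nat.Prime 7 := by norm_num
  have h7F : Fact (Nat.Prime 7) := ⟨hp7⟩
  have ho7 : orderOf (ev γ X7) = 7 := by
    have h1 := o7 h F
    rwa [Subgroup.orderOf_mk] at h1
  have ho333 : orderOf (ev γ X333) = 3 := by
    have h1 := o333 h F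
    rwa [Subgroup.orderOf_mk] at h1
  obtain ⟨R0, hR0⟩ := Sylow.exists_subgroup_card_pow_prime 7 (sq_dvd333 h F hp7 (by norm_num) (by norm_num) h7)
  set R1 : Subgroup G := R0.map (centralizer ({ev γ X333} : Set G)).subtype with hR1
  have hR1x : R1 ≤ centralizer ({ev γ X333} : Set G) := map_subtype_le _
  have hR1c : Nat.card R1 = 7 ^ 2 := by rw [hR1, card_map_of_injective (subtype_injective _), hR0]
  have hR1p : IsPGroup 7 R1 := IsPGroup.of_card hR1c
  obtain ⟨P1, hP1⟩ := hR1p.exists_le_sylow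
  have hP1R : (P1 : Subgroup G) = R1 := by
    obtain ⟨n, hn⟩ := P1.isPGroup'.exists_card_eq
    have h4 : n < 3 := by
      by_contra hlt
      have h5 : 7 ^ 3 ∣ Nat.card (P1 : Subgroup G) := by rw [hn]; exact pow_dvd_pow 7 (not_lt.1 hlt)
      have h6 := h5.trans (card_subgroup_dvd_card _)
      rw [h.card] at h6
      norm_num at h6
    refine (Subgroup.eq_of_le_of_card_ge hP1 ?_).symm
    rw [hn, hR1c]
    exact Nat.pow_le_pow_right (by norm_num) (by omega)
  have hz7 : IsPGroup 7 (zpowers (ev γ X7)) := IsPGroup.of_card (n := 1) (by rw [Nat.card_zpowers, ho7, pow_one])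
  obtain ⟨P2, hP2⟩ := hz7.exists_le_sylow
  obtain ⟨g, hg⟩ := MulAction.exists_smul_eq G P1 P2
  -- the conjugates
  set x' : G := g * ev γ X333 * g⁻¹ with hx'
  set R : Subgroup G := R1.map (MulAut.conj g).toMonoidHom with hR
  have hRc : Nat.card R = 7 ^ 2 := by rw [hR, card_map_of_injective (MulAut.conj g).injective, hR1c]
  have hRx : ∀ r ∈ R, r * x' = x' * r := by
    rintro _ ⟨r, hr, rfl⟩
    have h4 := mem_centralizer_singleton_iff.1 (hR1x hr)
    change g * r * g⁻¹ * (g * ev γ X333 * g⁻¹) = g * ev γ X333 * g⁻¹ * (g * r * g⁻¹)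
    calc g * r * g⁻¹ * (g * ev γ X333 * g⁻¹) = g * (r * ev γ X333) * g⁻¹ := by group
      _ = g * (ev γ X333 * r) * g⁻¹ := by rw [h4]
      _ = _ := by group
  have hx's : orderOf x' = 3 := by rw [← ho333]; exact MulEquiv.orderOf_eq (MulAut.conj g) _
  have hRcomm : ∀ r ∈ R, ∀ r' ∈ R, r * r' = r' * r := fun r hr r' hr' =>
    congrArg Subtype.val ((IsPGroup.isMulCommutative_of_card_eq_prime_sq hRc).is_comm.comm ⟨r, hr⟩ ⟨r', hr'⟩)
  have hXR : ev γ X7 ∈ R := by
    have h4 : ev γ X7 ∈ (P2 : Subgroup G) := hP2 (mem_zpowers _)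
    rw [← hg] at h4
    obtain ⟨r, hr, hrg⟩ := h4
    rw [hR, ← hP1R]
    exact ⟨r, hr, hrg⟩
  have hRC : R ≤ centralizer ({ev γ X7} : Set G) := fun r hr =>
    mem_centralizer_singleton_iff.2 (hRcomm r hr _ hXR)
  have hx'C : x' ∈ centralizer ({ev γ X7} : Set G) := mem_centralizer_singleton_iff.2 (hRx _ hXR).symm
  have h49 : 7 ^ 2 ∣ Nat.card ↥(centralizer ({ev γ X7} : Set G)) := by rw [← hRc]; exact card_dvd_of_le hRC
  have hZ : zpowers (xx γ X7) ≤ center ↥(centralizer ({ev γ X7} : Set G)) := zpowers_le.2 xx_center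
  have hWn : (zpowers (xx γ X7)).Normal := ⟨fun x hx g => by
    have h2 : g * x * g⁻¹ = x := by rw [mem_center_iff.1 (hZ hx) g, mul_inv_cancel_right]
    rwa [h2]⟩
  obtain ⟨hsimp, hcard⟩ := quot7 h F hone h348 h49
  have hWc : Nat.card (zpowers (xx γ X7)) = 7 := by
    rw [Nat.card_zpowers, ← Subgroup.orderOf_coe]
    exact ho7
  -- an element of `R` outside
  obtain ⟨r, hr, hrW⟩ : ∃ r : ↥(centralizer ({ev γ X7} : Set G)), (r : G) ∈ R ∧ r ∉ zpowers (xx γ X7) := by
    by_contra hcon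
    push Not at hcon
    have h1 : R.subgroupOf (centralizer ({ev γ X7} : Set G)) ≤ zpowers (xx γ X7) := fun r hr => hcon r hr
    have h2 := Subgroup.card_le_of_le h1
    rw [Nat.card_congr (subgroupOfEquivOfLe hRC).toEquiv, hRc, hWc] at h2
    norm_num at h2
  refine not_comm_168 hsimp hcard (a := QuotientGroup.mk' _ (⟨x', hx'C⟩ : ↥(centralizer ({ev γ X7} : Set G))))
    (b := QuotientGroup.mk' _ r) ?_ ?_ ?_
  · have h3F : Fact (Nat.Prime 3) := ⟨Nat.prime_three⟩
    refine orderOf_eq_prime ?_ ?_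
    · rw [← map_pow]
      have h1 : (⟨x', hx'C⟩ : ↥(centralizer ({ev γ X7} : Set G))) ^ 3 = 1 := Subtype.ext (by
        change x' ^ 3 = 1
        rw [← hx's, pow_orderOf_eq_one])
      rw [h1, map_one]
    · intro h1
      have h2 : (⟨x', hx'C⟩ : ↥(centralizer ({ev γ X7} : Set G))) ∈ zpowers (xx γ X7) := (QuotientGroup.eq_one_iff _).1 h1
      have h3 : orderOf (⟨_, h2⟩ : ↥(zpowers (xx γ X7))) ∣ Nat.card (zpowers (xx γ X7)) := orderOf_dvd_natCard _
      rw [Subgroup.orderOf_mk, Subgroup.orderOf_mk, hx's, hWc] at h3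
      norm_num at h3
  · have h1 : orderOf (QuotientGroup.mk' (zpowers (xx γ X7)) r) ∣ 7 ^ 2 := by
      refine (orderOf_map_dvd _ _).trans ?_
      rw [← Subgroup.orderOf_coe, ← Subgroup.orderOf_mk (r : G) hr, ← hRc]
      exact orderOf_dvd_natCard _
    have h2 : orderOf (QuotientGroup.mk' (zpowers (xx γ X7)) r) ∣ 168 := by
      rw [← hcard]
      exact orderOf_dvd_natCard _
    obtain ⟨j, hj, hj7⟩ := (Nat.dvd_prime_pow hp7).1 h1
    interval_cases j
    · exfalso
      rw [pow_zero, orderOf_eq_one_iff] at hj7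
      exact hrW ((QuotientGroup.eq_one_iff _).1 hj7)
    · rw [hj7, pow_one]
    · rw [hj7] at h2
      norm_num at h2
  · rw [← map_mul, ← map_mul]
    congr 1
    exact Subtype.ext (hRx _ hr).symm

end

end Cfsg.Agent.H555.Hall.ThC
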