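import Cfsg.Agent.H555.Hall.ZStar

/-!
# The odd core with a small centralizer (helper555)

`comm_of_fpf` : a subgroup of a finite group on which an involution acts without fixed points is abelian;
`ns_of_central` : `z` an involution of `X`, `N` a normal subgroup of odd order with `N C(z) = X`, `Z ≤ N` central in `X`
with `N ∩ C(z) ≤ Z`: if `t ^ 2 ∤ |C(z)|`, `t ∣ |Z|`, then `X` has a normal Sylow `t`-subgroup.
-/

set_option autoImplicit false

namespace Cfsg.Agent.H555.Hall

open Subgroup Cfsg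

universe u

variable {X : Type u} [Group X] [Finite X]

theorem comm_of_fpf {z : X} (hzz : z * z = 1) {M : Subgroup X} (hM : ∀ m ∈ M, z * m * z⁻¹ ∈ M)
    (hf : ∀ m ∈ M, m * z = z * m → m = 1) : ∀ a ∈ M, ∀ b ∈ M, a * b = b * a := by
  let φ : M →* M :=
    { toFun := fun m => ⟨z * m * z⁻¹, hM m m.2⟩
      map_one' := Subtype.ext (by simp)
      map_mul' := fun a b => Subtype.ext (by
        change z * (a * b : X) * z⁻¹ = z * a * z⁻¹ * (z * b * z⁻¹)
        group) }
  have hfp : MonoidHom.FixedPointFree φ := by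
    intro m hm
    apply Subtype.ext
    have h1 : z * (m : X) * z⁻¹ = m := congrArg Subtype.val hm
    exact hf m m.2 (mul_inv_eq_iff_eq_mul.1 h1).symm
  have hinv : Function.Involutive φ := by
    intro m
    apply Subtype.ext
    change z * (z * (m : X) * z⁻¹) * z⁻¹ = m
    have h2 : z⁻¹ = z := inv_eq_of_mul_eq_one_right hzz
    rw [h2]
    calc z * (z * (m : X) * z) * z = (z * z) * m * (z * z) := by group
      _ = m := by rw [hzz]; group
  intro a ha b hb
  exact congrArg Subtype.val ((hfp.commute_all_of_involutive hinv) ⟨a, ha⟩ ⟨b, hb⟩).eq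

/-- commutators lie in `Z` -/
theorem comm_mem_of_central {z : X} (hz : orderOf z = 2) {N Z : Subgroup X} (hN : N.Normal) (hodd : Odd (Nat.card N))
    (hZN : Z ≤ N) (hZ : Z ≤ center X) (hfix : ∀ n ∈ N, n * z = z * n → n ∈ Z) :
    ∀ a ∈ N, ∀ b ∈ N, a * b * a⁻¹ * b⁻¹ ∈ Z := by
  have hZn : Z.Normal := ⟨fun x hx g => by
    have h2 : g * x * g⁻¹ = x := by rw [mem_center_iff.1 (hZ hx) g, mul_inv_cancel_right]
    rwa [h2]⟩
  have hZodd : Odd (Nat.card Z) := Odd.of_dvd_nat hodd (card_dvd_of_le hZN)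
  have hc := LThree.Red.centralizer_mk Nat.prime_two Z (Nat.coprime_two_right.2 hZodd) hz
  have hzz : z * z = 1 := by rw [← pow_two, ← hz, pow_orderOf_eq_one]
  have key := comm_of_fpf (X := X ⧸ Z) (z := QuotientGroup.mk' Z z) (by rw [← map_mul, hzz, map_one])
    (M := N.map (QuotientGroup.mk' Z)) ?_ ?_
  · intro a ha b hb
    have h1 := key _ (mem_map_of_mem _ ha) _ (mem_map_of_mem _ hb)
    rw [← map_mul, ← map_mul] at h1
    have h2 : QuotientGroup.mk' Z (a * b * a⁻¹ * b⁻¹) = 1 := by
      have h3 : a * b * a⁻¹ * b⁻¹ = a * b * (b * a)⁻¹ := by group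
      rw [h3, map_mul, map_inv, h1, mul_inv_cancel]
    exact (QuotientGroup.eq_one_iff _).1 h2
  · rintro _ ⟨n, hn, rfl⟩
    refine ⟨z * n * z⁻¹, hN.conj_mem n hn z, ?_⟩
    rw [map_mul, map_mul, map_inv]
  · rintro _ ⟨n, hn, rfl⟩ hnz
    have h1 : QuotientGroup.mk' Z n ∈ centralizer ({(QuotientGroup.mk' Z z)} : Set (X ⧸ Z)) :=
      mem_centralizer_singleton_iff.2 hnz
    rw [hc] at h1
    obtain ⟨c, hcz, hcn⟩ := h1
    have h2 : c ∈ N := by
      have h3 : c⁻¹ * n ∈ Z := by
        rw [← QuotientGroup.eq_one_iff (N := Z)]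
        change QuotientGroup.mk' Z (c⁻¹ * n) = 1
        rw [map_mul, map_inv, hcn, inv_mul_cancel]
      have h4 : c = n * (c⁻¹ * n)⁻¹ := by group
      rw [h4]
      exact mul_mem hn (inv_mem (hZN h3))
    have h5 := hfix c h2 (mem_centralizer_singleton_iff.1 hcz)
    rw [← hcn]
    exact (QuotientGroup.eq_one_iff _).2 h5

theorem ns_of_central {z : X} (hz : orderOf z = 2) {N Z : Subgroup X} (hN : N.Normal) (hodd : Odd (Nat.card N))
    (hsup : N ⊔ centralizer ({z} : Set X) = ⊤) (hZN : Z ≤ N) (hZ : Z ≤ center X)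
    (hfix : ∀ n ∈ N, n * z = z * n → n ∈ Z) {t : ℕ} (ht : t.Prime) (htZ : t ∣ Nat.card Z)
    (ht2 : ¬ t ^ 2 ∣ Nat.card (centralizer ({z} : Set X))) :
    ∃ T : Subgroup X, T.Normal ∧ T ≤ N ∧ IsPGroup t T ∧ ¬ t ∣ T.index := by
  have hft : Fact t.Prime := ⟨ht⟩
  have hcomm := comm_mem_of_central hz hN hodd hZN hZ hfix
  -- `N` is nilpotent
  have hnil : Group.IsNilpotent N := by
    have h1 : commutator N ≤ center N := by
      rw [commutator_def, commutator_le]
      rintro ⟨a, ha⟩ - ⟨b, hb⟩ -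
      rw [mem_center_iff]
      rintro ⟨g, hg⟩
      apply Subtype.ext
      have h2 := hZ (hcomm a ha b hb)
      exact mem_center_iff.1 h2 g
    have h2 : IsMulCommutative (N ⧸ center N) := by
      refine ⟨⟨fun a b => ?_⟩⟩
      obtain ⟨a, rfl⟩ := QuotientGroup.mk'_surjective _ a
      obtain ⟨b, rfl⟩ := QuotientGroup.mk'_surjective _ b
      rw [← map_mul, ← map_mul]
      apply (QuotientGroup.eq).2
      apply h1
      have h3 := commutator_mem_commutator (mem_top (b⁻¹ : N)) (mem_top (a⁻¹ : N))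
      rw [commutatorElement_def, inv_inv, inv_inv] at h3
      rwa [show (a * b)⁻¹ * (b * a) = b⁻¹ * a⁻¹ * b * a from by group]
    have h3 : Group.IsNilpotent (N ⧸ center N) := by
      rw [_root_.nilpotent_iff_lowerCentralSeries]
      refine ⟨1, ?_⟩
      rw [top_lowerCentralSeries_one, commutator_def, eq_bot_iff, commutator_le]
      rintro a - b -
      rw [mem_bot, commutatorElement_def, h2.is_comm.comm a b]
      group
    exact Group.of_quotient_center_nilpotent h3
  obtain ⟨T⟩ : Nonempty (Sylow t N) := inferInstance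
  have hTn : (T : Subgroup N).Normal := by
    have := (Group.isNilpotent_of_finite_tfae (G := N)).out 0 3
    exact this.1 hnil t hft T
  have hTc : (T : Subgroup N).Characteristic := T.characteristic_of_normal hTn
  refine ⟨(T : Subgroup N).map N.subtype, inferInstance, map_subtype_le _, T.isPGroup'.map _, ?_⟩
  have h1 : ((T : Subgroup N).map N.subtype).index = (T : Subgroup N).index * N.index := by
    have := index_map (T : Subgroup N) N.subtype
    rwa [N.ker_subtype, sup_bot_eq, range_subtype] at this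
  rw [h1, ht.dvd_mul, not_or]
  refine ⟨T.not_dvd_index, fun h => ht2 ?_⟩
  have h3 : (N.subgroupOf (centralizer ({z} : Set X))).index = N.index := by
    have h4 := relIndex_sup_right (H := centralizer ({z} : Set X)) (K := N)
    rw [sup_comm, hsup, relIndex_top_right] at h4
    exact h4.symm
  have h5 := (N.subgroupOf (centralizer ({z} : Set X))).card_mul_index
  rw [h3] at h5
  rw [← h5, pow_two]
  refine mul_dvd_mul ?_ h
  have h6 : Z.subgroupOf (centralizer ({z} : Set X)) ≤ N.subgroupOf (centralizer ({z} : Set X)) :=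
    fun x hx => hZN hx
  have hZC : Z ≤ centralizer ({z} : Set X) := fun x hx =>
    mem_centralizer_singleton_iff.2 (mem_center_iff.1 (hZ hx) z).symm
  have h7 : Nat.card (Z.subgroupOf (centralizer ({z} : Set X))) = Nat.card Z :=
    Nat.card_congr (subgroupOfEquivOfLe hZC).toEquiv
  exact (h7 ▸ htZ).trans (card_dvd_of_le h6)

end Cfsg.Agent.H555.Hall
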